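/-
Character tools for the abelian section correspondence.

* `resAct`: the action on a stable subgroup
* `isCharacter_idem`, `exists_signed_irr`
* `fixed_of_constituent`: constituents below an invariant character, when the fixed points cover
* `sum_mult_sq`: `∑ ⟨χ|N, θ⟩² = [G : N]` for invariant `θ`
-/
import Cfsg.Agent.Lib.CharApp.CoprimeFixed
import Cfsg.Agent.Lib.GlauberChar.Basic

set_option autoImplicit false
set_option linter.style.haveILetI false

namespace Cfsg.Agent.OddSection

open Cfsg Cfsg.Agent.Char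

variable {G : Type*} [Group G] {S : Type*} [Group S]

/-- The action on a stable subgroup. -/
def resAct (act : S →* MulAut G) (H : Subgroup G) (h : ∀ s, ∀ x ∈ H, act s x ∈ H) :
    S →* MulAut H where
  toFun s :=
    { toFun := fun x => ⟨act s x, h s x x.2⟩
      invFun := fun x => ⟨act s⁻¹ x, h s⁻¹ x x.2⟩
      left_inv := fun x => Subtype.ext (by simp)
      right_inv := fun x => Subtype.ext (by simp)
      map_mul' := fun a b => Subtype.ext (by simp) }
  map_one' := by ext x; simp
  map_mul' a b := by ext x; simp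

@[simp] theorem resAct_coe (act : S →* MulAut G) (H : Subgroup G) (h : ∀ s, ∀ x ∈ H, act s x ∈ H)
    (s : S) (x : H) : ((resAct act H h s x : H) : G) = act s x := rfl

/-- The trace on the image of a commuting idempotent is a character. -/
theorem isCharacter_idem {V : Type*} [AddCommGroup V] [Module ℂ V] [FiniteDimensional ℂ V]
    (ρ : Representation ℂ G V) (f : Module.End ℂ V) (hf : f * f = f) (hc : ∀ g, Commute f (ρ g)) :
    IsCharacter G (fun g => LinearMap.trace ℂ V (f * ρ g)) := by
  let p : Subrepresentation ρ := ⟨LinearMap.range f, by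
    rintro g _ ⟨v, rfl⟩
    exact ⟨ρ g v, LinearMap.congr_fun (hc g).eq v⟩⟩
  convert isCharacter_character p.toRepresentation using 1
  funext g
  rw [← LinearMap.trace_restrict_eq_of_forall_mem (LinearMap.range f) (f * ρ g)
    (fun x => ⟨ρ g x, rfl⟩)]
  unfold Representation.character
  congr 1
  refine LinearMap.ext fun ⟨v, w, hw⟩ => Subtype.ext ?_
  subst hw
  show f (ρ g (f w)) = ρ g (f w)
  have h1 : ρ g (f w) = f (ρ g w) := (LinearMap.congr_fun (hc g).eq w).symm
  rw [h1]
  exact LinearMap.congr_fun hf (ρ g w)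

section fin
variable [Fintype G]

/-- A difference of characters of norm one: exactly one constituent has odd multiplicity in the
sum. -/
theorem exists_signed_irr {A B : G → ℂ} (hA : IsCharacter G A) (hB : IsCharacter G B)
    (h : classInner (A - B) (A - B) = 1) :
    ∃ ψ : IrrCharacter G, ∃ z : ℂ, z * z = 1 ∧ A - B = z • (ψ : G → ℂ) ∧
      (∃ m : ℕ, classInner (A + B) (ψ : G → ℂ) = m ∧ Odd m) ∧
      ∀ η : IrrCharacter G, (∃ m : ℕ, classInner (A + B) (η : G → ℂ) = m ∧ Odd m) → η = ψ := by
  classical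
  haveI := Fintype.ofFinite (IrrCharacter G)
  obtain ⟨a, ha, ha'⟩ := IsCharacter.decompose hA
  obtain ⟨b, hb, hb'⟩ := IsCharacter.decompose hB
  let d : IrrCharacter G → ℤ := fun η => (a η : ℤ) - b η
  have hd : A - B = ∑ η, ((d η : ℤ) : ℂ) • (η : G → ℂ) := by
    rw [ha, hb, ← Finset.sum_sub_distrib]
    exact Finset.sum_congr rfl fun η _ => by simp [d, sub_smul]
  have hd' : ∀ η : IrrCharacter G, classInner (A - B) (η : G → ℂ) = (d η : ℂ) := fun η => by
    rw [classInner_sub_left, ha', hb']; simp [d]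
  have hsq : ∑ η, d η * d η = 1 := by
    have h1 := h
    nth_rw 2 [hd] at h1
    rw [classInner_sum_right] at h1
    simp only [classInner_smul_right, hd'] at h1
    have h2 : ((∑ η, d η * d η : ℤ) : ℂ) = 1 := by
      rw [← h1]; push_cast; exact Finset.sum_congr rfl fun η _ => by simp
    exact_mod_cast h2
  obtain ⟨ψ, hψ⟩ : ∃ ψ, d ψ ≠ 0 := by
    by_contra hno
    push Not at hno
    simp [hno] at hsq
  have h1 := Finset.sum_eq_add_sum_sdiff_singleton_of_mem (Finset.mem_univ ψ) (fun η => d η * d η)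
  rw [hsq] at h1
  have hrest : 0 ≤ ∑ η ∈ Finset.univ \ {ψ}, d η * d η :=
    Finset.sum_nonneg fun η _ => mul_self_nonneg _
  have hpos : 1 ≤ d ψ * d ψ := by
    have := mul_self_pos.mpr hψ
    omega
  have hone : d ψ * d ψ = 1 := by omega
  have hzero : ∀ η, η ≠ ψ → d η = 0 := fun η hη => by
    have h2 : ∑ η ∈ Finset.univ \ {ψ}, d η * d η = 0 := by omega
    exact mul_self_eq_zero.mp ((Finset.sum_eq_zero_iff_of_nonneg fun η _ => mul_self_nonneg _).mp h2 η
      (by simp [hη]))
  have hpar : ∀ η : IrrCharacter G, classInner (A + B) (η : G → ℂ) = ((a η + b η : ℕ) : ℂ) := fun η => by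
    rw [classInner_add_left, ha', hb']; push_cast; rfl
  refine ⟨ψ, (d ψ : ℂ), by exact_mod_cast hone, ?_, ⟨_, hpar ψ, ?_⟩, ?_⟩
  · rw [hd, Finset.sum_eq_single ψ (fun η _ hη => by simp [hzero η hη])
      (fun hh => absurd (Finset.mem_univ ψ) hh)]
  · have hψ' : ((a ψ : ℤ) - b ψ) * (a ψ - b ψ) = 1 := hone
    rw [Nat.odd_iff]
    rcases Int.eq_one_or_neg_one_of_mul_eq_one hψ' with h3 | h3 <;> omega
  · rintro η ⟨m, hm, hodd⟩
    by_contra hη
    have hm' : m = a η + b η := Nat.cast_injective (hm.symm.trans (hpar η))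
    have h4 : (a η : ℤ) - b η = 0 := hzero η hη
    rw [Nat.odd_iff] at hodd
    omega

variable (N : Subgroup G) [N.Normal] [Fintype N]

/-- Constituents of an invariant character are invariant when the fixed points cover `G`. -/
theorem fixed_of_constituent (act : S →* MulAut G) [Finite S] (hcop : (Nat.card G).Coprime (Nat.card S))
    (hN : ∀ s, ∀ x ∈ N, act s x ∈ N) (hgen : ∀ g, ∃ n ∈ N, ∃ c, (∀ s, act s c = c) ∧ g = n * c)
    {χ : G → ℂ} (hχ : IsIrrCharacter G χ) (hfix : GlauberChar.IsFixed act χ) {θ : N → ℂ}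
    (hθ : IsIrrCharacter N θ) (hover : classInner (fun n : N => χ n) θ ≠ 0) :
    GlauberChar.IsFixed (resAct act N hN) θ := by
  intro s x
  let σ : MulAut N := resAct act N hN s
  have hθ' : classInner (fun n : N => χ n) (fun n => θ (σ n)) ≠ 0 := by
    have h := classInner_comp_equiv σ (fun n : N => χ n) θ
    rw [show (fun n => χ ((σ n : N) : G)) = fun n : N => χ n from funext fun n => hfix s n] at h
    rwa [h]
  obtain ⟨g, hg⟩ := CliffordChar.constituents_conjugate N hχ hθ (IsIrrCharacter.comp_equiv hθ σ) hover hθ'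
  obtain ⟨n, hn, c, hc, rfl⟩ := hgen g
  have hn' := CharApp.le_inertia N (IsIrrCharacter.isClassFunction hθ) hn
  have hcl : CliffordChar.conjFun N c θ = fun n => θ (σ n) := by
    rw [show n * c = c * (c⁻¹ * n * c) by group, CliffordChar.conjFun_mul,
      (CharApp.mem_inertia N).mp (CharApp.le_inertia N (IsIrrCharacter.isClassFunction hθ)
        (show c⁻¹ * n * c ∈ N by simpa using (inferInstance : N.Normal).conj_mem n hn c⁻¹))] at hg
    exact hg
  -- powers
  have hpow : ∀ i : ℕ, CliffordChar.conjFun N (c ^ i) θ = fun n => θ ((σ ^ i) n) := by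
    intro i
    induction i with
    | zero => rw [pow_zero, CliffordChar.conjFun_one]; rfl
    | succ i ih =>
      rw [pow_succ, CliffordChar.conjFun_mul, hcl]
      funext n
      rw [CliffordChar.conjFun_apply]
      have h1 := congrFun ih (σ n)
      rw [CliffordChar.conjFun_apply] at h1
      rw [pow_succ, MulAut.mul_apply, ← h1]
      congr 1
      refine Subtype.ext ?_
      simp [σ, hc s]
  have hσn : σ ^ Nat.card S = 1 := by rw [← map_pow, pow_card_eq_one', map_one]
  have hmem : c ^ Nat.card S ∈ CharApp.inertia N θ := by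
    rw [CharApp.mem_inertia, hpow, hσn]; rfl
  have hc1 : c ∈ CharApp.inertia N θ := by
    obtain ⟨a, ha⟩ : ∃ a : ℕ, (c ^ Nat.card S) ^ a = c :=
      exists_pow_eq_self_of_coprime (hcop.symm.coprime_dvd_right (orderOf_dvd_natCard c))
    rw [← ha]; exact Subgroup.pow_mem _ hmem a
  have := congrFun (hcl.symm.trans hc1) x
  exact this

/-- The multiplicities over an invariant character. -/
theorem sum_mult_sq [Fintype (IrrCharacter G)] {θ : N → ℂ} (hθ : IsIrrCharacter N θ)
    (hinv : ∀ g, CliffordChar.conjFun N g θ = θ) :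
    ∑ χ : IrrCharacter G, classInner (fun n : N => (χ : G → ℂ) n) θ ^ 2 = (N.index : ℂ) := by
  obtain ⟨c, hc, hc'⟩ := IsCharacter.decompose (IsCharacter.indFun N (IsIrrCharacter.isCharacter hθ))
  have hcm : ∀ χ : IrrCharacter G, classInner (fun n : N => (χ : G → ℂ) n) θ = c χ := fun χ => by
    have h := hc' χ
    rw [frobenius_reciprocity N θ (IsIrrCharacter.isClassFunction χ.2)] at h
    exact CharApp.classInner_comm_of_nat h
  have h1 := congrFun hc 1
  rw [indFun_one_apply, Finset.sum_apply] at h1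
  have h2 : ∀ χ : IrrCharacter G, (c χ : ℂ) * (χ : G → ℂ) 1 = (c χ : ℂ) ^ 2 * θ 1 := fun χ => by
    rcases Nat.eq_zero_or_pos (c χ) with h0 | h0
    · simp [h0]
    · have h3 := congrFun (CharApp.restrict_invariant N χ.2 hθ
        (by rw [hcm]; exact Nat.cast_ne_zero.mpr h0.ne') hinv) 1
      simp only [hcm, OneMemClass.coe_one, Pi.smul_apply, smul_eq_mul] at h3
      rw [h3]; ring
  simp only [Pi.smul_apply, smul_eq_mul, h2, ← Finset.sum_mul] at h1
  simp only [hcm]
  exact (mul_right_cancel₀ (IsIrrCharacter.apply_one_ne_zero hθ) h1).symm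

end fin

end Cfsg.Agent.OddSection
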