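/-
Representations with a multiple of an irreducible character, and finite sums of representations.

* `piRep`, `character_piRep`, `trace_single_comp`
* `exists_model`: a representation with character `m φ` is a sum of `m` copies of the irreducible one
* `commutant_center`: the centre of the commutant is scalar
* `exists_outer`: an automorphism fixing `φ` is realised by a unit centralising the commutant
-/
import Cfsg.Agent.Lib.Char.Inner
import Cfsg.Agent.Lib.CharApp.Schur

set_option autoImplicit false
set_option linter.style.haveILetI false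

namespace Cfsg.Agent.OddSection

open Cfsg Module

section pi

variable {G : Type*} [Group G] {I : Type*} {W : I → Type*} [∀ i, AddCommGroup (W i)]
  [∀ i, Module ℂ (W i)]

/-- The sum of a family of representations. -/
def piRep (ρ : ∀ i, Representation ℂ G (W i)) : Representation ℂ G (∀ i, W i) where
  toFun g := LinearMap.pi fun i => ρ i g ∘ₗ LinearMap.proj i
  map_one' := by ext v i; simp
  map_mul' a b := by ext v i; simp

@[simp] theorem piRep_apply (ρ : ∀ i, Representation ℂ G (W i)) (g : G) (v : ∀ i, W i) (i : I) :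
    piRep ρ g v i = ρ i g (v i) := rfl

variable [Fintype I] [DecidableEq I] [∀ i, FiniteDimensional ℂ (W i)]

theorem trace_single_comp (i : I) (f : Module.End ℂ (W i)) :
    LinearMap.trace ℂ (∀ i, W i) (LinearMap.single ℂ W i ∘ₗ f ∘ₗ LinearMap.proj i) =
      LinearMap.trace ℂ (W i) f := by
  rw [LinearMap.trace_comp_comm', LinearMap.comp_assoc]
  congr 1
  ext w
  simp

theorem character_piRep (ρ : ∀ i, Representation ℂ G (W i)) (g : G) :
    (piRep ρ).character g = ∑ i, (ρ i).character g := by
  have h : piRep ρ g = ∑ i, LinearMap.single ℂ W i ∘ₗ ρ i g ∘ₗ LinearMap.proj i := by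
    refine LinearMap.ext fun v => funext fun j => ?_
    simp [LinearMap.sum_apply]
  unfold Representation.character
  rw [h, map_sum]
  exact Finset.sum_congr rfl fun i _ => trace_single_comp i _

end pi

section isotypic

variable {G : Type*} [Group G] [Finite G] {V : Type*} [AddCommGroup V] [Module ℂ V]
  [FiniteDimensional ℂ V] (ρ : Representation ℂ G V) {φ : G → ℂ} (hφ : IsIrrCharacter G φ) {m : ℕ}
  (h : ρ.character = (m : ℂ) • φ)

include hφ h

theorem exists_model : ∃ (d : ℕ) (τ : Representation ℂ G (Fin d → ℂ))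
    (e : V ≃ₗ[ℂ] (Fin m → Fin d → ℂ)), τ.IsIrreducible ∧ τ.character = φ ∧
      ∀ g v a, e (ρ g v) a = τ g (e v a) := by
  obtain ⟨d, τ, hτ, rfl⟩ := hφ
  have hc : ρ.character = (piRep fun _ : Fin m => τ).character := by
    funext g
    rw [h, character_piRep]
    simp
  obtain ⟨T⟩ := Char.equiv_of_character_eq ρ (piRep fun _ : Fin m => τ) hc
  exact ⟨d, τ, T.toLinearEquiv, hτ, rfl, fun g v a =>
    congrFun (T.toIntertwiningMap.isIntertwining ρ (piRep fun _ : Fin m => τ) g v) a⟩

/-- The centre of the commutant consists of scalars. -/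
theorem commutant_center (Z : Module.End ℂ V) (hZ : ∀ g, Commute Z (ρ g))
    (hZc : ∀ Y : Module.End ℂ V, (∀ g, Commute Y (ρ g)) → Commute Z Y) :
    ∃ c : ℂ, Z = c • 1 := by
  obtain ⟨d, τ, e, hτ, -, he⟩ := exists_model ρ hφ h
  haveI := hτ
  rcases Nat.eq_zero_or_pos m with rfl | hm
  · exact ⟨0, LinearMap.ext fun v => e.injective (Subsingleton.elim _ _)⟩
  let a₀ : Fin m := ⟨0, hm⟩
  let Z' : Module.End ℂ (Fin m → Fin d → ℂ) := e.toLinearMap ∘ₗ Z ∘ₗ e.symm.toLinearMap
  let f : Module.End ℂ (Fin d → ℂ) := LinearMap.proj a₀ ∘ₗ Z' ∘ₗ LinearMap.single ℂ (fun _ : Fin m => Fin d → ℂ) a₀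
  have hρ : ∀ g w, ρ g (e.symm w) = e.symm (fun a => τ g (w a)) := fun g w =>
    e.injective (funext fun a => by rw [he, LinearEquiv.apply_symm_apply, LinearEquiv.apply_symm_apply])
  obtain ⟨c, hc⟩ := CharApp.exists_scalar_of_commute τ f fun g => LinearMap.ext fun w => by
    have h1 := congrArg (fun v => e v a₀) (LinearMap.congr_fun (hZ g).eq (e.symm (Pi.single a₀ w)))
    simp only [Module.End.mul_apply, he] at h1
    rw [hρ, show (fun a => τ g ((Pi.single a₀ w : Fin m → Fin d → ℂ) a)) = Pi.single a₀ (τ g w) from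
      funext fun a => by rcases eq_or_ne a a₀ with rfl | ha <;> simp [*]] at h1
    simpa [f, Z'] using h1
  refine ⟨c, ?_⟩
  suffices hZ' : ∀ a w, Z' (Pi.single a w) = c • Pi.single a w by
    refine LinearMap.ext fun v => e.injective ?_
    have : Z' = c • LinearMap.id := LinearMap.pi_ext fun a w => by simpa using hZ' a w
    simpa [Z'] using LinearMap.congr_fun this (e v)
  intro a w
  let E : Module.End ℂ V :=
    e.symm.toLinearMap ∘ₗ LinearMap.single ℂ (fun _ : Fin m => Fin d → ℂ) a ∘ₗ LinearMap.proj a₀ ∘ₗ e.toLinearMap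
  have hE : ∀ g, Commute E (ρ g) := fun g => LinearMap.ext fun v => e.injective (funext fun b => by
    rcases eq_or_ne b a with rfl | hb <;> simp [E, he, *])
  have h2 := congrArg e (LinearMap.congr_fun (hZc E hE).eq (e.symm (Pi.single a₀ w)))
  simp only [E, Module.End.mul_apply, LinearMap.comp_apply, LinearEquiv.coe_coe,
    LinearEquiv.apply_symm_apply, LinearMap.proj_apply, LinearMap.coe_single, Pi.single_eq_same] at h2
  have h3 : f w = c • w := by rw [hc]; rfl
  calc Z' (Pi.single a w) = Pi.single a (f w) := h2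
    _ = c • Pi.single a w := by rw [h3, Pi.single_smul]

/-- An automorphism fixing `φ` is induced by a unit which centralises the commutant. -/
theorem exists_outer (β : G ≃* G) (hβ : ∀ g, φ (β g) = φ g) :
    ∃ u : (Module.End ℂ V)ˣ,
      (∀ g, (u : Module.End ℂ V) * ρ g = ρ (β g) * (u : Module.End ℂ V)) ∧
      ∀ Y : Module.End ℂ V, (∀ g, Commute Y (ρ g)) → Commute (u : Module.End ℂ V) Y := by
  obtain ⟨d, τ, e, hτ, hτφ, he⟩ := exists_model ρ hφ h
  haveI := hτ
  let τ' : Representation ℂ G (Fin d → ℂ) := τ.comp β.toMonoidHom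
  obtain ⟨T⟩ := Char.equiv_of_character_eq τ τ' (by
    funext g
    show τ.character g = τ.character (β g)
    rw [hτφ, hβ])
  let t : (Fin d → ℂ) ≃ₗ[ℂ] (Fin d → ℂ) := T.toLinearEquiv
  have ht : ∀ g w, t (τ g w) = τ (β g) (t w) := fun g w =>
    T.toIntertwiningMap.isIntertwining τ τ' g w
  let M : (Fin m → Fin d → ℂ) ≃ₗ[ℂ] (Fin m → Fin d → ℂ) := LinearEquiv.piCongrRight fun _ => t
  let U : V ≃ₗ[ℂ] V := (e.trans M).trans e.symm
  let u : (Module.End ℂ V)ˣ := ⟨U.toLinearMap, U.symm.toLinearMap,
    LinearMap.ext fun v => U.apply_symm_apply v, LinearMap.ext fun v => U.symm_apply_apply v⟩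
  have hu : ∀ v a, e ((u : Module.End ℂ V) v) a = t (e v a) := fun v a => by simp [u, U, M]
  refine ⟨u, fun g => LinearMap.ext fun v => e.injective (funext fun a => ?_), fun Y hY =>
    LinearMap.ext fun v => e.injective (funext fun a => ?_)⟩
  · simp only [Module.End.mul_apply, hu, he, ht]
  -- the entries of `Y` are scalars
  have hρ : ∀ g w, ρ g (e.symm w) = e.symm (fun a => τ g (w a)) := fun g w =>
    e.injective (funext fun a => by rw [he, LinearEquiv.apply_symm_apply, LinearEquiv.apply_symm_apply])
  have hsing : ∀ b, ∃ c : ℂ, ∀ w, e (Y (e.symm (Pi.single b w))) a = c • w := fun b => by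
    obtain ⟨c, hc⟩ := CharApp.exists_scalar_of_commute τ
      (LinearMap.proj a ∘ₗ e.toLinearMap ∘ₗ Y ∘ₗ e.symm.toLinearMap ∘ₗ LinearMap.single ℂ (fun _ : Fin m => Fin d → ℂ) b)
      fun g => LinearMap.ext fun w => by
        have h1 := congrArg (fun v => e v a) (LinearMap.congr_fun (hY g).eq (e.symm (Pi.single b w)))
        simp only [Module.End.mul_apply, he] at h1
        rw [hρ, show (fun x => τ g ((Pi.single b w : Fin m → Fin d → ℂ) x)) = Pi.single b (τ g w) from
          funext fun x => by rcases eq_or_ne x b with rfl | hx <;> simp [*]] at h1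
        simpa using h1
    exact ⟨c, fun w => by simpa using LinearMap.congr_fun hc w⟩
  choose c hc using hsing
  have hY' : ∀ v, e (Y v) a = ∑ b, c b • e v b := fun v => by
    have hv : e v = ∑ b, Pi.single b (e v b) := (Finset.univ_sum_single (e v)).symm
    have hv' : v = ∑ b, e.symm (Pi.single b (e v b)) := e.injective (by
      rw [map_sum, hv]; simp [← hv])
    conv_lhs => rw [hv', map_sum, map_sum, Finset.sum_apply]
    exact Finset.sum_congr rfl fun b _ => hc b _
  simp only [Module.End.mul_apply, hu, hY']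
  simp [map_sum]

end isotypic

end Cfsg.Agent.OddSection
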