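/-
The inverting involution of an abelian section.

`ρ` is a representation of the group `G` of odd order, `K/L` an abelian section on which the coprime
group `S` fixes nothing, the centres of the commutants of `L` and `K` are scalar, conjugation by
elements of `K` is inner on the commutant `A` of `L`, and `S` is realised by units `U`.
The Baer sum of the `S`-normalised lifts of `K` in `A` gives an involution of `A` which inverts the
action of `K`.

* `Datum`, `Datum.exists_twist`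
-/
import Cfsg.Agent.Lib.BaerTrick.Basic
import Cfsg.Agent.Lib.Char.Inner

set_option autoImplicit false
set_option linter.style.haveILetI false
set_option linter.unusedSectionVars false

namespace Cfsg.Agent.OddSection

open Cfsg.Agent.BaerTrick
open scoped commutatorElement

variable {G : Type*} [Group G] {S : Type*} [Group S] {V : Type*} [AddCommGroup V] [Module ℂ V]

section conj

variable (ρ : Representation ℂ G V)

/-- Conjugation of endomorphisms by a unit. -/
def cj (u : (Module.End ℂ V)ˣ) (Y : Module.End ℂ V) : Module.End ℂ V :=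
  (u : Module.End ℂ V) * Y * ((u⁻¹ : (Module.End ℂ V)ˣ) : Module.End ℂ V)

theorem cj_one (Y : Module.End ℂ V) : cj 1 Y = Y := by simp [cj]

theorem cj_mul (u v : (Module.End ℂ V)ˣ) (Y : Module.End ℂ V) : cj (u * v) Y = cj u (cj v Y) := by
  simp [cj, mul_assoc]

theorem cj_eq_iff (u : (Module.End ℂ V)ˣ) (Y : Module.End ℂ V) :
    cj u Y = Y ↔ Commute (u : Module.End ℂ V) Y :=
  Units.mul_inv_eq_iff_eq_mul u

/-- The units `R g`. -/
noncomputable def un : G →* (Module.End ℂ V)ˣ := ρ.toHomUnits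

theorem un_val (g : G) : (un ρ g : Module.End ℂ V) = ρ g := rfl

theorem cj_un (g : G) (Y : Module.End ℂ V) : cj (un ρ g) Y = ρ g * Y * ρ g⁻¹ := by
  rw [cj, ← map_inv, un_val, un_val]

/-- Scalars as units. -/
noncomputable def sc : ℂˣ →* (Module.End ℂ V)ˣ :=
  Units.map (algebraMap ℂ (Module.End ℂ V)).toMonoidHom

theorem sc_val (c : ℂˣ) : ((sc c : (Module.End ℂ V)ˣ) : Module.End ℂ V) = (c : ℂ) • 1 :=
  Algebra.algebraMap_eq_smul_one _

theorem sc_commute (c : ℂˣ) (Y : Module.End ℂ V) :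
    Commute ((sc c : (Module.End ℂ V)ˣ) : Module.End ℂ V) Y :=
  Algebra.commutes _ Y

theorem sc_mul_comm (c : ℂˣ) (u : (Module.End ℂ V)ˣ) : sc c * u = u * sc c :=
  Units.ext (sc_commute c (u : Module.End ℂ V)).eq

theorem sc_injective [Nontrivial V] : Function.Injective (sc : ℂˣ → (Module.End ℂ V)ˣ) :=
  fun _ _ h => Units.ext ((algebraMap ℂ (Module.End ℂ V)).injective (congrArg Units.val h))

variable (L : Subgroup G)

/-- `X` lies in the commutant of `L`. -/
def InA (X : Module.End ℂ V) : Prop := ∀ l ∈ L, Commute X (ρ l)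

/-- `P` acts like `k` on the commutant of `L`. -/
def Impl (P : (Module.End ℂ V)ˣ) (k : G) : Prop := ∀ Y, InA ρ L Y → cj P Y = cj (un ρ k) Y

theorem inA_cj_of_norm {u : (Module.End ℂ V)ˣ} {α : MulAut G} (hu : ∀ g, u * un ρ g = un ρ (α g) * u)
    (hL : ∀ l ∈ L, α.symm l ∈ L) {Y : Module.End ℂ V} (hY : InA ρ L Y) : InA ρ L (cj u Y) := by
  intro l hl
  have h1 : cj (un ρ l) (cj u Y) = cj u Y := by
    rw [← cj_mul, show un ρ l * u = u * un ρ (α.symm l) by rw [hu, MulEquiv.apply_symm_apply],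
      cj_mul, (cj_eq_iff (un ρ (α.symm l)) Y).mpr (hY _ (hL l hl)).symm]
  exact ((cj_eq_iff _ _).mp h1).symm

end conj

/-- The hypotheses. -/
structure Datum (ρ : Representation ℂ G V) (act : S →* MulAut G) (K L : Subgroup G) : Prop where
  le : L ≤ K
  normalK : K.Normal
  normalL : L.Normal
  comm : ∀ a ∈ K, ∀ b ∈ K, a * b * a⁻¹ * b⁻¹ ∈ L
  odd : Odd (Nat.card G)
  cop : (Nat.card G).Coprime (Nat.card S)
  stableK : ∀ s, ∀ k ∈ K, act s k ∈ K
  stableL : ∀ s, ∀ l ∈ L, act s l ∈ L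
  fixmod : ∀ M : Subgroup G, L ≤ M → M ≤ K → (∀ s, ∀ x ∈ M, act s x ∈ M) →
    ∀ k ∈ K, (∀ s, act s k * k⁻¹ ∈ M) → k ∈ M
  real : ∀ s, ∃ u : (Module.End ℂ V)ˣ, ∀ g, u * un ρ g = un ρ (act s g) * u
  centreA : ∀ Z, InA ρ L Z → (∀ Y, InA ρ L Y → Commute Z Y) → ∃ c : ℂ, Z = c • 1
  centreK : ∀ Z, InA ρ K Z → (∀ Y, InA ρ K Y → Commute Z Y) → ∃ c : ℂ, Z = c • 1
  outer : ∀ k ∈ K, ∃ u : (Module.End ℂ V)ˣ,
    (∀ l ∈ L, u * un ρ l = un ρ (k * l * k⁻¹) * u) ∧
      ∀ Y, InA ρ L Y → Commute (u : Module.End ℂ V) Y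

namespace Datum

variable {ρ : Representation ℂ G V} {act : S →* MulAut G} {K L : Subgroup G}
  (D : Datum ρ act K L)

include D

theorem inA_cj_un {Y : Module.End ℂ V} (hY : InA ρ L Y) (g : G) : InA ρ L (cj (un ρ g) Y) :=
  inA_cj_of_norm ρ L (α := MulAut.conj g) (fun x => by rw [← map_mul, ← map_mul]; simp)
    (fun l hl => by simpa using D.normalL.conj_mem l hl g⁻¹) hY

omit D in
theorem cj_un_L {l : G} (hl : l ∈ L) {Y : Module.End ℂ V} (hY : InA ρ L Y) : cj (un ρ l) Y = Y :=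
  (cj_eq_iff _ _).mpr (hY l hl).symm

omit D in
theorem inA_units_inv {P : (Module.End ℂ V)ˣ} (h : InA ρ L (P : Module.End ℂ V)) :
    InA ρ L ((P⁻¹ : (Module.End ℂ V)ˣ) : Module.End ℂ V) :=
  fun l hl => (h l hl).units_inv_left

theorem impl_mul {P Q : (Module.End ℂ V)ˣ} {k k' : G} (hP : Impl ρ L P k) (hQ : Impl ρ L Q k') :
    Impl ρ L (P * Q) (k * k') := fun Y hY => by
  rw [cj_mul, hQ Y hY, hP _ (D.inA_cj_un hY k'), map_mul, cj_mul]

theorem impl_inv {P : (Module.End ℂ V)ˣ} {k : G} (hP : Impl ρ L P k) : Impl ρ L P⁻¹ k⁻¹ :=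
  fun Y hY => by
    have h := hP _ (D.inA_cj_un hY k⁻¹)
    rw [← cj_mul (un ρ k), ← map_mul, mul_inv_cancel, map_one, cj_one] at h
    conv_lhs => rw [← h, ← cj_mul, inv_mul_cancel, cj_one]

omit D in
theorem impl_one : Impl ρ L 1 (1 : G) := fun _ _ => by rw [map_one]

theorem impl_pow {P : (Module.End ℂ V)ˣ} {k : G} (hP : Impl ρ L P k) :
    ∀ n : ℕ, Impl ρ L (P ^ n) (k ^ n)
  | 0 => by simpa using impl_one
  | n + 1 => by rw [pow_succ, pow_succ]; exact D.impl_mul (impl_pow hP n) hP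

/-- The units of the commutant acting like elements of `K`. -/
def omega : Subgroup (Module.End ℂ V)ˣ where
  carrier := {P | InA ρ L (P : Module.End ℂ V) ∧ ∃ k ∈ K, Impl ρ L P k}
  one_mem' := ⟨fun _ _ => Commute.one_left _, 1, K.one_mem, impl_one⟩
  mul_mem' := by
    rintro P Q ⟨hP, k, hk, hPk⟩ ⟨hQ, k', hk', hQk⟩
    exact ⟨fun l hl => (hP l hl).mul_left (hQ l hl), _, K.mul_mem hk hk', D.impl_mul hPk hQk⟩
  inv_mem' := by
    rintro P ⟨hP, k, hk, hPk⟩
    exact ⟨inA_units_inv hP, _, K.inv_mem hk, D.impl_inv hPk⟩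

theorem scalar_of_impl_one {P : (Module.End ℂ V)ˣ} (hP : InA ρ L (P : Module.End ℂ V))
    (h : ∀ Y, InA ρ L Y → cj P Y = Y) [Nontrivial V] : ∃ c : ℂˣ, P = sc c := by
  obtain ⟨c, hc⟩ := D.centreA _ hP fun Y hY => (cj_eq_iff _ _).mp (h Y hY)
  have hc0 : c ≠ 0 := by
    rintro rfl
    exact P.ne_zero (by rw [hc, zero_smul])
  exact ⟨Units.mk0 c hc0, Units.ext (by rw [sc_val]; exact hc)⟩

theorem scalar_of_impl_L {P : (Module.End ℂ V)ˣ} (hP : InA ρ L (P : Module.End ℂ V)) {l : G}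
    (hl : l ∈ L) (h : Impl ρ L P l) [Nontrivial V] : ∃ c : ℂˣ, P = sc c :=
  D.scalar_of_impl_one hP fun Y hY => (h Y hY).trans (cj_un_L hl hY)

theorem commutator_scalar [Nontrivial V] (P Q : D.omega) :
    ∃ c : ℂˣ, ((⁅P, Q⁆ : D.omega) : (Module.End ℂ V)ˣ) = sc c := by
  obtain ⟨-, k, hk, hPk⟩ := P.2
  obtain ⟨-, k', hk', hQk⟩ := Q.2
  refine D.scalar_of_impl_L (⁅P, Q⁆ : D.omega).2.1 (D.comm k hk k' hk') ?_
  simpa [commutatorElement_def] using
    D.impl_mul (D.impl_mul (D.impl_mul hPk hQk) (D.impl_inv hPk)) (D.impl_inv hQk)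

theorem central [Nontrivial V] (P Q : D.omega) : ⁅P, Q⁆ ∈ Subgroup.center D.omega := by
  obtain ⟨c, hc⟩ := D.commutator_scalar P Q
  rw [Subgroup.mem_center_iff]
  intro X
  refine Subtype.ext ?_
  rw [Subgroup.coe_mul, Subgroup.coe_mul, hc, sc_mul_comm]

variable [Finite G] [Nontrivial V]

theorem pow_card_scalar (P : D.omega) :
    ∃ c : ℂˣ, ((P ^ Nat.card G : D.omega) : (Module.End ℂ V)ˣ) = sc c := by
  obtain ⟨-, k, hk, hPk⟩ := P.2
  refine D.scalar_of_impl_L (P ^ Nat.card G : D.omega).2.1 L.one_mem ?_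
  simpa [pow_card_eq_one'] using D.impl_pow hPk (Nat.card G)

theorem commutator_pow_card (P Q : D.omega) : ⁅P, Q⁆ ^ Nat.card G = 1 := by
  have hpow : ∀ n : ℕ, ⁅P ^ n, Q⁆ = ⁅P, Q⁆ ^ n := by
    intro n
    induction n with
    | zero => simp [commutatorElement_def]
    | succ n ih => rw [pow_succ, commutator_mul_left D.central, ih, pow_succ]
  obtain ⟨c, hc⟩ := D.pow_card_scalar P
  rw [← hpow, commutatorElement_eq_one_iff_mul_comm]
  refine Subtype.ext ?_
  rw [Subgroup.coe_mul, Subgroup.coe_mul, hc, sc_mul_comm]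

/-- The Baer data on `omega`. -/
noncomputable def baer : BaerData D.omega where
  h := (Nat.card G + 1) / 2
  central := D.central
  sqroot P Q := by
    obtain ⟨r, hr⟩ := D.odd
    rw [show 2 * ((Nat.card G + 1) / 2) = Nat.card G + 1 by omega, pow_succ,
      D.commutator_pow_card, one_mul]

/-- Conjugation of `omega` by a unit normalising the situation. -/
noncomputable def aut (u : (Module.End ℂ V)ˣ) (α : MulAut G)
    (hu : ∀ g, u * un ρ g = un ρ (α g) * u) (hK : ∀ k ∈ K, α k ∈ K) (hK' : ∀ k ∈ K, α.symm k ∈ K)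
    (hL : ∀ l ∈ L, α l ∈ L) (hL' : ∀ l ∈ L, α.symm l ∈ L) : MulAut D.omega where
  toFun P := ⟨u * P * u⁻¹, by
    obtain ⟨hP, k, hk, hPk⟩ := P.2
    refine ⟨inA_cj_of_norm ρ L hu hL' hP, α k, hK k hk, fun Y hY => ?_⟩
    have hu' : ∀ g, u⁻¹ * un ρ g = un ρ (α.symm g) * u⁻¹ := fun g => by
      rw [inv_mul_eq_iff_eq_mul, ← mul_assoc, hu, MulEquiv.apply_symm_apply, mul_inv_cancel_right]
    have hY' : InA ρ L (cj u⁻¹ Y) :=
      inA_cj_of_norm ρ L hu' (fun l hl => by simpa using hL l hl) hY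
    rw [cj_mul, cj_mul, hPk _ hY', ← cj_mul, ← cj_mul, hu, mul_inv_cancel_right]⟩
  invFun P := ⟨u⁻¹ * P * u, by
    obtain ⟨hP, k, hk, hPk⟩ := P.2
    have hu' : ∀ g, u⁻¹ * un ρ g = un ρ (α.symm g) * u⁻¹ := fun g => by
      rw [inv_mul_eq_iff_eq_mul, ← mul_assoc, hu, MulEquiv.apply_symm_apply, mul_inv_cancel_right]
    refine ⟨?_, α.symm k, hK' k hk, fun Y hY => ?_⟩
    · have := inA_cj_of_norm ρ L hu' (fun l hl => by simpa using hL l hl) hP
      rwa [cj, inv_inv] at this
    have hY' : InA ρ L (cj u Y) := inA_cj_of_norm ρ L hu hL' hY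
    rw [cj_mul, cj_mul, hPk _ hY', ← cj_mul, ← cj_mul, hu', mul_assoc, inv_mul_cancel,
      mul_one]⟩
  left_inv P := Subtype.ext (by simp [mul_assoc])
  right_inv P := Subtype.ext (by simp [mul_assoc])
  map_mul' P Q := Subtype.ext (by simp [mul_assoc])

theorem act_symm_mem {M : Subgroup G} (h : ∀ s, ∀ x ∈ M, act s x ∈ M) (s : S) :
    ∀ x ∈ M, (act s).symm x ∈ M := fun x hx => by
  have := h s⁻¹ x hx
  rwa [map_inv] at this

/-- The action of `s`. -/
noncomputable def sig (s : S) : MulAut D.omega :=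
  D.aut (D.real s).choose (act s) (D.real s).choose_spec (D.stableK s) (D.act_symm_mem D.stableK s)
    (D.stableL s) (D.act_symm_mem D.stableL s)

theorem sig_scalar (s : S) {P : D.omega} {c : ℂˣ} (h : (P : (Module.End ℂ V)ˣ) = sc c) :
    D.sig s P = P := by
  refine Subtype.ext ?_
  show (D.real s).choose * (P : (Module.End ℂ V)ˣ) * (D.real s).choose⁻¹ = P
  rw [h, ← sc_mul_comm, mul_inv_cancel_right]

theorem sig_impl (s : S) {P : D.omega} {k : G} (h : Impl ρ L (P : (Module.End ℂ V)ˣ) k) :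
    Impl ρ L ((D.sig s P : D.omega) : (Module.End ℂ V)ˣ) (act s k) := by
  intro Y hY
  set u := (D.real s).choose with hu_def
  have hu : ∀ g, u * un ρ g = un ρ (act s g) * u := (D.real s).choose_spec
  have hu' : ∀ g, u⁻¹ * un ρ g = un ρ ((act s).symm g) * u⁻¹ := fun g => by
    rw [inv_mul_eq_iff_eq_mul, ← mul_assoc, hu, MulEquiv.apply_symm_apply, mul_inv_cancel_right]
  have hY' : InA ρ L (cj u⁻¹ Y) :=
    inA_cj_of_norm ρ L hu' (fun l hl => by simpa using D.stableL s l hl) hY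
  show cj (u * (P : (Module.End ℂ V)ˣ) * u⁻¹) Y = _
  rw [cj_mul, cj_mul, h _ hY', ← cj_mul, ← cj_mul, hu, mul_inv_cancel_right]

/-- Scalars in the Baer group. -/
noncomputable def scB : ℂˣ →* BaerGroup D.baer where
  toFun c := toBaer D.baer ⟨sc c, fun l _ => sc_commute c _, 1, K.one_mem, fun Y _ => by
    rw [map_one, cj_one, cj_eq_iff]; exact sc_commute c Y⟩
  map_one' := congrArg (toBaer D.baer) (Subtype.ext (map_one sc))
  map_mul' c d := by
    refine congrArg (toBaer D.baer) ?_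
    show _ = baerMul D.baer.h _ _
    rw [baerMul, corr_central_left D.baer (Subgroup.mem_center_iff.mpr fun X => Subtype.ext
      (sc_mul_comm c (X : (Module.End ℂ V)ˣ)).symm), mul_one]
    exact Subtype.ext (map_mul sc c d)

theorem scB_val (c : ℂˣ) :
    (((toBaer D.baer).symm (D.scB c) : D.omega) : (Module.End ℂ V)ˣ) = sc c := rfl

theorem scB_mem_center (c : ℂˣ) : (toBaer D.baer).symm (D.scB c) ∈ Subgroup.center D.omega :=
  Subgroup.mem_center_iff.mpr fun X => Subtype.ext (sc_mul_comm c (X : (Module.End ℂ V)ˣ)).symm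

theorem exists_scB {P : D.omega} {c : ℂˣ} (h : (P : (Module.End ℂ V)ˣ) = sc c) :
    toBaer D.baer P = D.scB c :=
  congrArg (toBaer D.baer) (Subtype.ext h)

theorem scB_injective : Function.Injective D.scB := fun _ _ h =>
  sc_injective (congrArg (fun P => (((toBaer D.baer).symm P : D.omega) : (Module.End ℂ V)ˣ)) h)

theorem same_impl {P Q : D.omega} {k : G} (hP : Impl ρ L (P : (Module.End ℂ V)ˣ) k)
    (hQ : Impl ρ L (Q : (Module.End ℂ V)ˣ) k) :
    ∃ c : ℂˣ, toBaer D.baer Q = D.scB c * toBaer D.baer P := by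
  obtain ⟨c, hc⟩ := D.scalar_of_impl_L (Q * P⁻¹ : D.omega).2.1 L.one_mem (by
    simpa using D.impl_mul hQ (D.impl_inv hP))
  refine ⟨c, ?_⟩
  show toBaer D.baer Q = toBaer D.baer (baerMul D.baer.h ((toBaer D.baer).symm (D.scB c)) P)
  refine congrArg _ ?_
  have hz : (toBaer D.baer).symm (D.scB c) = Q * P⁻¹ := Subtype.ext ((D.scB_val c).trans hc.symm)
  rw [baerMul, corr_central_left D.baer (D.scB_mem_center _), mul_one, hz,
    inv_mul_cancel_right]

theorem corr_scalar (P Q : D.omega) :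
    ∃ c : ℂˣ, ((corr D.baer.h P Q : D.omega) : (Module.End ℂ V)ˣ) = sc c := by
  obtain ⟨c, hc⟩ := D.commutator_scalar Q P
  exact ⟨c ^ D.baer.h, by rw [map_pow, ← hc]; rfl⟩

variable [Fintype S]

/-- The norm of the action of `S`. -/
noncomputable def nm : BaerGroup D.baer →* BaerGroup D.baer :=
  ∏ s : S, (baerAut D.baer (D.sig s)).toMonoidHom

theorem nm_apply (v : BaerGroup D.baer) : D.nm v = ∏ s : S, baerAut D.baer (D.sig s) v :=
  MonoidHom.finsetProd_apply _ _ _

theorem nm_scB (c : ℂˣ) : D.nm (D.scB c) = D.scB c ^ Nat.card S := by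
  rw [nm_apply, Finset.prod_congr rfl fun s _ => show baerAut D.baer (D.sig s) (D.scB c) = D.scB c from
    congrArg (toBaer D.baer) (D.sig_scalar s (D.scB_val c)), Finset.prod_const, Finset.card_univ,
    Nat.card_eq_fintype_card]

/-- `P` is the normalised lift of `k`. -/
def Good (P : D.omega) (k : G) : Prop :=
  Impl ρ L (P : (Module.End ℂ V)ˣ) k ∧ toBaer D.baer P ^ Nat.card G = 1 ∧
    D.nm (toBaer D.baer P) = 1

theorem good_unique {P Q : D.omega} {k : G} (hP : D.Good P k) (hQ : D.Good Q k) : P = Q := by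
  obtain ⟨c, hc⟩ := D.same_impl hP.1 hQ.1
  refine (toBaer D.baer).injective ?_
  have h1 : D.scB c ^ Nat.card G = 1 := by
    have := hQ.2.1
    rwa [hc, mul_pow, hP.2.1, mul_one] at this
  have h2 : D.scB c ^ Nat.card S = 1 := by
    have := hQ.2.2
    rwa [hc, map_mul, hP.2.2, mul_one, nm_scB] at this
  have h3 := pow_gcd_eq_one.mpr ⟨h1, h2⟩
  rw [D.cop, pow_one] at h3
  rw [hc, h3, one_mul]

theorem exists_good {k : G} (hk : k ∈ K) : ∃ P : D.omega, D.Good P k := by
  obtain ⟨u, hu, huc⟩ := D.outer k hk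
  have hP₀ : InA ρ L ((u⁻¹ * un ρ k : (Module.End ℂ V)ˣ) : Module.End ℂ V) := by
    intro l hl
    have h1 : u⁻¹ * un ρ k * un ρ l = un ρ l * (u⁻¹ * un ρ k) := by
      rw [mul_assoc, ← map_mul, show k * l = k * l * k⁻¹ * k by group, map_mul, ← mul_assoc,
        ← mul_assoc (un ρ l)]
      congr 1
      rw [inv_mul_eq_iff_eq_mul, ← mul_assoc, hu l hl, mul_inv_cancel_right]
    exact congrArg Units.val h1
  have hP₀k : Impl ρ L (u⁻¹ * un ρ k) k := fun Y hY => by
    rw [cj_mul, cj_eq_iff]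
    exact (huc _ (D.inA_cj_un hY k)).units_inv_left
  let P₀ : D.omega := ⟨u⁻¹ * un ρ k, hP₀, k, hk, hP₀k⟩
  obtain ⟨c, hc⟩ := D.pow_card_scalar P₀
  obtain ⟨d, hd⟩ := IsAlgClosed.exists_pow_nat_eq ((c : ℂ)⁻¹) (Nat.card_pos : 0 < Nat.card G)
  have hd0 : d ≠ 0 := fun h0 => by
    rw [h0, zero_pow Nat.card_pos.ne'] at hd
    exact inv_ne_zero c.ne_zero hd.symm
  let d' : ℂˣ := Units.mk0 d hd0
  have hd' : d' ^ Nat.card G = c⁻¹ := Units.ext (by simp [d', hd])
  let v := D.scB d' * toBaer D.baer P₀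
  have hvN : v ^ Nat.card G = 1 := by
    show (D.scB d' * toBaer D.baer P₀) ^ Nat.card G = 1
    rw [mul_pow, ← toBaer_pow, D.exists_scB hc, ← map_pow, hd', ← map_mul, inv_mul_cancel, map_one]
  have hvk : Impl ρ L (((toBaer D.baer).symm v : D.omega) : (Module.End ℂ V)ˣ) k := by
    intro Y hY
    show cj (((baerMul D.baer.h ((toBaer D.baer).symm (D.scB d')) P₀ : D.omega)) :
      (Module.End ℂ V)ˣ) Y = _
    rw [baerMul, corr_central_left D.baer (D.scB_mem_center _), mul_one, Subgroup.coe_mul,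
      D.scB_val, cj_mul, hP₀k Y hY, cj_eq_iff]
    exact sc_commute d' _
  -- the norm is a scalar
  obtain ⟨c', hc'⟩ : ∃ c' : ℂˣ, D.nm v = D.scB c' := by
    have hinv : ∀ t, ∃ z : ℂˣ, baerAut D.baer (D.sig t) (D.nm v) = D.scB z * D.nm v := by
      intro t
      have hq : QuotientGroup.mk' D.scB.range (baerAut D.baer (D.sig t) (D.nm v)) =
          QuotientGroup.mk' D.scB.range (D.nm v) := by
        rw [nm_apply, map_prod, map_prod, map_prod]
        refine Fintype.prod_equiv (Equiv.mulLeft t) _ _ fun s => ?_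
        rw [Equiv.coe_mulLeft, QuotientGroup.mk'_apply, QuotientGroup.mk'_apply, QuotientGroup.eq]
        obtain ⟨z, hz⟩ := D.same_impl (k := act (t * s) k)
          (P := D.sig t (D.sig s ((toBaer D.baer).symm v)))
          (Q := D.sig (t * s) ((toBaer D.baer).symm v))
          (by rw [map_mul act]; exact D.sig_impl t (D.sig_impl s hvk))
          (D.sig_impl (t * s) hvk)
        refine ⟨z, ?_⟩
        rw [eq_inv_mul_iff_mul_eq, mul_comm]
        exact hz.symm
      rw [QuotientGroup.mk'_apply, QuotientGroup.mk'_apply, QuotientGroup.eq] at hq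
      obtain ⟨z, hz⟩ := hq
      refine ⟨z⁻¹, ?_⟩
      rw [map_inv, hz, mul_inv_rev, inv_inv, mul_comm (D.nm v)⁻¹, inv_mul_cancel_right]
    let W : D.omega := (toBaer D.baer).symm (D.nm v)
    obtain ⟨hW, k', hk', hWk⟩ := W.2
    let M : Subgroup G :=
      { carrier := {x | x ∈ K ∧ ∀ Y, InA ρ L Y → cj (un ρ x) Y = Y}
        one_mem' := ⟨K.one_mem, fun Y _ => by rw [map_one, cj_one]⟩
        mul_mem' := fun {a b} ha hb => ⟨K.mul_mem ha.1 hb.1, fun Y hY => by
          rw [map_mul, cj_mul, hb.2 Y hY, ha.2 Y hY]⟩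
        inv_mem' := fun {a} ha => ⟨K.inv_mem ha.1, fun Y hY => by
          conv_lhs => rw [← ha.2 Y hY, ← cj_mul, ← map_mul, inv_mul_cancel, map_one, cj_one]⟩ }
    have hMs : ∀ s, ∀ x ∈ M, act s x ∈ M := by
      rintro s x ⟨hx, hxY⟩
      refine ⟨D.stableK s x hx, fun Y hY => ?_⟩
      set u := (D.real s).choose with hu_def
      have hu : ∀ g, u * un ρ g = un ρ (act s g) * u := (D.real s).choose_spec
      have hu' : ∀ g, u⁻¹ * un ρ g = un ρ ((act s).symm g) * u⁻¹ := fun g => by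
        rw [inv_mul_eq_iff_eq_mul, ← mul_assoc, hu, MulEquiv.apply_symm_apply, mul_inv_cancel_right]
      have hY' : InA ρ L (cj u⁻¹ Y) :=
        inA_cj_of_norm ρ L hu' (fun l hl => by simpa using D.stableL s l hl) hY
      have h1 : un ρ (act s x) = u * un ρ x * u⁻¹ := by rw [hu, mul_inv_cancel_right]
      rw [h1, cj_mul, cj_mul, hxY _ hY', ← cj_mul, mul_inv_cancel, cj_one]
    have hk'M : k' ∈ M := D.fixmod M (fun l hl => ⟨D.le hl, fun Y hY => cj_un_L hl hY⟩)
      (fun x hx => hx.1) hMs k' hk' fun t => ⟨K.mul_mem (D.stableK t k' hk') (K.inv_mem hk'),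
        fun Y hY => by
          obtain ⟨z, hz⟩ := hinv t
          have hz' : D.sig t W = (baerMul D.baer.h ((toBaer D.baer).symm (D.scB z)) W : D.omega) := hz
          have hY' := D.inA_cj_un hY k'⁻¹
          have h1 := D.sig_impl t hWk _ hY'
          rw [hz', baerMul, corr_central_left D.baer (D.scB_mem_center _),
            mul_one, Subgroup.coe_mul, D.scB_val, cj_mul, hWk _ hY', ← cj_mul (un ρ k'), ← map_mul,
            mul_inv_cancel, map_one, cj_one, (cj_eq_iff _ _).mpr (sc_commute z Y)] at h1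
          rw [map_mul, cj_mul]
          exact h1.symm⟩
    obtain ⟨c', hc'⟩ := D.scalar_of_impl_one hW fun Y hY => (hWk Y hY).trans (hk'M.2 Y hY)
    exact ⟨c', D.exists_scB hc'⟩
  obtain ⟨a, ha⟩ : ∃ a : ℕ, ∀ z : ℂˣ, z ^ Nat.card G = 1 → z ^ (a * Nat.card S) = z := by
    rcases Nat.lt_or_ge 1 (Nat.card G) with hG | hG
    · obtain ⟨a, -, ha⟩ := Nat.exists_mul_mod_eq_one_of_coprime D.cop.symm hG
      exact ⟨a, fun z hz => by rw [mul_comm a, pow_eq_pow_mod _ hz, ha, pow_one]⟩
    · refine ⟨0, fun z hz => ?_⟩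
      rw [show Nat.card G = 1 by have := Nat.card_pos (α := G); omega, pow_one] at hz
      rw [hz, one_pow]
  have hc'N : c' ^ Nat.card G = 1 := D.scB_injective (by
    rw [map_pow, ← hc', ← map_pow, hvN, map_one, map_one])
  refine ⟨(toBaer D.baer).symm (D.scB ((c' ^ a)⁻¹) * v), fun Y hY => ?_, ?_, ?_⟩
  · show cj (((baerMul D.baer.h ((toBaer D.baer).symm (D.scB ((c' ^ a)⁻¹)))
      ((toBaer D.baer).symm v) : D.omega)) : (Module.End ℂ V)ˣ) Y = _
    rw [baerMul, corr_central_left D.baer (D.scB_mem_center _), mul_one, Subgroup.coe_mul,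
      D.scB_val, cj_mul, hvk Y hY, cj_eq_iff]
    exact sc_commute _ _
  · rw [Equiv.apply_symm_apply, mul_pow, hvN, mul_one, ← map_pow, inv_pow, ← pow_mul, mul_comm a,
      pow_mul, hc'N, one_pow, inv_one, map_one]
  · rw [Equiv.apply_symm_apply, map_mul, nm_scB, hc', ← map_pow, inv_pow, ← pow_mul, ha c' hc'N,
      ← map_mul, inv_mul_cancel, map_one]

/-- The normalised lift. -/
noncomputable def lift (k : K) : D.omega := (D.exists_good k.2).choose

theorem lift_good (k : K) : D.Good (D.lift k) k := (D.exists_good k.2).choose_spec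

theorem lift_mul (a b : K) : D.lift (a * b) = baerMul D.baer.h (D.lift a) (D.lift b) := by
  refine D.good_unique (D.lift_good _) ⟨fun Y hY => ?_, ?_, ?_⟩
  · obtain ⟨c, hc⟩ := D.corr_scalar (D.lift a) (D.lift b)
    rw [baerMul, Subgroup.coe_mul, Subgroup.coe_mul, hc, cj_mul,
      (cj_eq_iff _ _).mpr (sc_commute c Y)]
    exact D.impl_mul (D.lift_good a).1 (D.lift_good b).1 Y hY
  · show (toBaer D.baer (D.lift a) * toBaer D.baer (D.lift b)) ^ Nat.card G = 1
    rw [mul_pow, (D.lift_good a).2.1, (D.lift_good b).2.1, one_mul]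
  · show D.nm (toBaer D.baer (D.lift a) * toBaer D.baer (D.lift b)) = 1
    rw [map_mul, (D.lift_good a).2.2, (D.lift_good b).2.2, one_mul]

theorem lift_one : D.lift 1 = 1 :=
  D.good_unique (D.lift_good 1) ⟨impl_one, one_pow _, map_one _⟩

theorem lift_inv (a : K) : D.lift a⁻¹ = (D.lift a)⁻¹ := by
  refine eq_inv_of_mul_eq_one_left ?_
  have h := D.lift_mul a⁻¹ a
  rw [inv_mul_cancel, lift_one, baerMul] at h
  have hc : corr D.baer.h (D.lift a⁻¹) (D.lift a) = 1 := by
    have e : ⁅D.lift a, D.lift a⁻¹⁆ = 1 := by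
      rw [commutatorElement_eq_one_iff_mul_comm]
      have hz := corr_mem D.baer (D.lift a⁻¹) (D.lift a)
      have h' : D.lift a⁻¹ = (corr D.baer.h (D.lift a⁻¹) (D.lift a))⁻¹ * (D.lift a)⁻¹ := by
        rw [eq_mul_inv_iff_mul_eq, eq_inv_iff_mul_eq_one]; exact h.symm
      generalize corr D.baer.h (D.lift a⁻¹) (D.lift a) = z at hz h'
      rw [h', ← mul_assoc, Subgroup.mem_center_iff.mp (Subgroup.inv_mem _ hz) (D.lift a),
        mul_inv_cancel_right, inv_mul_cancel_right]
    rw [corr, e, one_pow]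
  rw [hc, mul_one] at h
  exact h.symm

/-- Conjugation by a fixed element permutes the lifts. -/
theorem lift_conj {c : G} (hc : ∀ s, act s c = c) (k : K) :
    un ρ c * (D.lift k : (Module.End ℂ V)ˣ) * (un ρ c)⁻¹ =
      (D.lift ⟨c * k * c⁻¹, D.normalK.conj_mem k k.2 c⟩ : (Module.End ℂ V)ˣ) := by
  have hu : ∀ g, un ρ c * un ρ g = un ρ (MulAut.conj c g) * un ρ c := fun g => by
    rw [← map_mul, ← map_mul]; simp
  let γ := D.aut (un ρ c) (MulAut.conj c) hu (fun x hx => by simpa using D.normalK.conj_mem x hx c)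
    (fun x hx => by simpa using D.normalK.conj_mem x hx c⁻¹)
    (fun x hx => by simpa using D.normalL.conj_mem x hx c)
    (fun x hx => by simpa using D.normalL.conj_mem x hx c⁻¹)
  show ((γ (D.lift k) : D.omega) : (Module.End ℂ V)ˣ) = _
  congr 1
  refine D.good_unique ⟨fun Y hY => ?_, ?_, ?_⟩ (D.lift_good _)
  · show cj (un ρ c * (D.lift k : (Module.End ℂ V)ˣ) * (un ρ c)⁻¹) Y = _
    rw [cj_mul, cj_mul, ← map_inv, (D.lift_good k).1 _ (D.inA_cj_un hY _), ← cj_mul, ← cj_mul,
      ← map_mul, ← map_mul]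
  · show baerAut D.baer γ (toBaer D.baer (D.lift k)) ^ Nat.card G = 1
    rw [← map_pow, (D.lift_good k).2.1, map_one]
  · have hcomm : ∀ s, baerAut D.baer (D.sig s) (baerAut D.baer γ (toBaer D.baer (D.lift k))) =
        baerAut D.baer γ (baerAut D.baer (D.sig s) (toBaer D.baer (D.lift k))) := by
      intro s
      refine congrArg (toBaer D.baer) (Subtype.ext ?_)
      have h1 : (D.real s).choose * un ρ c = un ρ c * (D.real s).choose := by
        rw [(D.real s).choose_spec, hc]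
      show (D.real s).choose * (un ρ c * (D.lift k : (Module.End ℂ V)ˣ) * (un ρ c)⁻¹) *
          (D.real s).choose⁻¹ =
        un ρ c * ((D.real s).choose * (D.lift k : (Module.End ℂ V)ˣ) * (D.real s).choose⁻¹) *
          (un ρ c)⁻¹
      have h2 : (un ρ c)⁻¹ * (D.real s).choose⁻¹ = (D.real s).choose⁻¹ * (un ρ c)⁻¹ := by
        rw [← mul_inv_rev, h1, mul_inv_rev]
      calc _ = (D.real s).choose * un ρ c * (D.lift k : (Module.End ℂ V)ˣ) *
            ((un ρ c)⁻¹ * (D.real s).choose⁻¹) := by group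
        _ = _ := by rw [h1, h2]; group
    show D.nm (baerAut D.baer γ (toBaer D.baer (D.lift k))) = 1
    rw [nm_apply, Finset.prod_congr rfl fun s _ => hcomm s, ← map_prod, ← nm_apply,
      (D.lift_good k).2.2, map_one]

set_option maxHeartbeats 1000000 in
/-- An involution of the commutant of `L` inverting the action of `K`. -/
theorem exists_twist :
    ∃ j : Module.End ℂ V, j * j = 1 ∧ InA ρ L j ∧
      (∀ c, (∀ s, act s c = c) → Commute j (ρ c)) ∧
      (∀ Y, InA ρ K Y → Commute j Y) ∧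
      ∀ k ∈ K, ∀ Y, InA ρ L Y →
        j * (ρ k * Y * ρ k⁻¹) * j = ρ k⁻¹ * (j * Y * j) * ρ k := by
  classical
  haveI := Fintype.ofFinite K
  let P : K → Module.End ℂ V := fun k => ((D.lift k : (Module.End ℂ V)ˣ) : Module.End ℂ V)
  let J : Module.End ℂ V := ∑ k, P k
  let cm : K → K → D.omega := fun b k => ⁅D.lift b, D.lift k⁆
  -- products
  have hcorr : ∀ k b : K, corr D.baer.h (D.lift k) (D.lift (k⁻¹ * b)) = cm b k ^ D.baer.h := by
    intro k b
    rw [corr, lift_mul, lift_inv, baerMul, commutator_mul_left D.central,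
      commutator_mul_left D.central, commutator_center_left D.central (corr_mem D.baer _ _),
      mul_one, show ⁅(D.lift k)⁻¹, D.lift k⁆ = 1 by simp [commutatorElement_def], one_mul]
  have hprod : ∀ k b : K, D.lift k * D.lift (k⁻¹ * b) = D.lift b * (cm b k ^ D.baer.h)⁻¹ := by
    intro k b
    have h := D.lift_mul k (k⁻¹ * b)
    rw [mul_inv_cancel_left, baerMul, hcorr] at h
    rw [eq_mul_inv_iff_mul_eq]
    exact h.symm
  -- `P a J P a = J`
  have hsand : ∀ a k : K, D.lift a * D.lift k * D.lift a = D.lift (k * (a * a)) := by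
    intro a k
    have hQ : ⁅D.lift a * D.lift a, D.lift k⁆ = ⁅D.lift a, D.lift k⁆ ^ 2 := by
      rw [commutator_mul_left D.central, sq]
    have haa : D.lift (a * a) = D.lift a * D.lift a := by
      rw [lift_mul, baerMul, corr, show ⁅D.lift a, D.lift a⁆ = 1 by simp,
        one_pow, mul_one]
    have hz := Subgroup.mem_center_iff.mp (D.central (D.lift a) (D.lift k)) (D.lift k * D.lift a * D.lift a)
    calc D.lift a * D.lift k * D.lift a
        = ⁅D.lift a, D.lift k⁆ * (D.lift k * D.lift a * D.lift a) := by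
          simp only [commutatorElement_def]; group
      _ = D.lift k * D.lift a * D.lift a * ⁅D.lift a, D.lift k⁆ := hz.symm
      _ = D.lift (k * (a * a)) := by
          rw [lift_mul D k, haa, baerMul, corr, hQ, ← pow_mul, mul_assoc (D.lift k),
            D.baer.sqroot]
  have hJinv : ∀ a : K, P a * J * P a = J := by
    intro a
    simp only [J, Finset.mul_sum, Finset.sum_mul]
    refine Fintype.sum_equiv (Equiv.mulRight (a * a)) _ _ fun k => ?_
    exact congrArg (fun x : D.omega => ((x : (Module.End ℂ V)ˣ) : Module.End ℂ V)) (hsand a k)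
  -- the character `k ↦ ⁅P b, P k⁆`
  have hscal : ∀ b k : K, ∃ c : ℂˣ, ((cm b k : D.omega) : (Module.End ℂ V)ˣ) = sc c :=
    fun b k => D.commutator_scalar _ _
  choose κ hκ using hscal
  let χ : K → (K →* ℂˣ) := fun b => MonoidHom.mk' (fun k => ((κ b k) ^ D.baer.h)⁻¹) fun k k' => by
    rw [← mul_inv, ← mul_pow]
    congr 2
    refine sc_injective (V := V) ?_
    rw [map_mul, ← hκ, ← hκ, ← hκ, ← Subgroup.coe_mul]
    congr 1
    show ⁅D.lift b, D.lift (k * k')⁆ = _
    rw [lift_mul, baerMul, commutator_mul_right D.central, commutator_mul_right D.central,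
      commutator_center_right (corr_mem D.baer _ _), mul_one]
  have hJsq : J * J = ∑ b, (∑ k, ((χ b k : ℂˣ) : ℂ)) • P b := by
    have h1 : ∀ k b : K, P k * P (k⁻¹ * b) = ((χ b k : ℂˣ) : ℂ) • P b := by
      intro k b
      have h2 : ((D.lift k * D.lift (k⁻¹ * b) : D.omega) : (Module.End ℂ V)ˣ) =
          (D.lift b : (Module.End ℂ V)ˣ) * sc ((χ b k)) := by
        rw [hprod, Subgroup.coe_mul]
        congr 1
        show _ = sc ((κ b k ^ D.baer.h)⁻¹)
        rw [map_inv, map_pow, ← hκ, Subgroup.coe_inv, SubmonoidClass.coe_pow]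
      have h3 := congrArg (fun u : (Module.End ℂ V)ˣ => (u : Module.End ℂ V)) h2
      simp only [Subgroup.coe_mul, Units.val_mul, sc_val, mul_smul_comm, mul_one] at h3
      exact h3
    calc J * J = ∑ k, ∑ b, P k * P (k⁻¹ * b) := by
          simp only [J]
          rw [Finset.sum_mul_sum]
          exact Finset.sum_congr rfl fun k _ =>
            (Fintype.sum_equiv (Equiv.mulLeft k⁻¹) _ _ fun a => rfl).symm
      _ = ∑ b, (∑ k, ((χ b k : ℂˣ) : ℂ)) • P b := by
          rw [Finset.sum_comm]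
          exact Finset.sum_congr rfl fun b _ => by rw [Finset.sum_smul]; simp only [h1]
  have htriv : ∀ b : K, χ b = 1 ↔ D.lift b = 1 := by
    intro b
    constructor
    · intro hb
      have hcomm : ∀ k : K, ⁅D.lift b, D.lift k⁆ = 1 := fun k => by
        have h1 : ((κ b k) ^ D.baer.h)⁻¹ = 1 := DFunLike.congr_fun hb k
        have h2 : (cm b k ^ D.baer.h : D.omega) = 1 := Subtype.ext (by
          rw [SubmonoidClass.coe_pow, hκ, ← map_pow, inv_eq_one.mp h1, map_one]; rfl)
        rw [← D.baer.sqroot, mul_comm, pow_mul, show ⁅D.lift b, D.lift k⁆ ^ D.baer.h = 1 from h2,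
          one_pow]
      have hbA : InA ρ L (P b) := (D.lift b).2.1
      have hbK : InA ρ K (P b) := fun k hk => by
        have h1 : cj (D.lift ⟨k, hk⟩ : (Module.End ℂ V)ˣ) (P b) = P b := (cj_eq_iff _ _).mpr
          (congrArg (fun x : D.omega => ((x : (Module.End ℂ V)ˣ) : Module.End ℂ V))
            (commutatorElement_eq_one_iff_mul_comm.mp (hcomm ⟨k, hk⟩)).symm)
        rw [(D.lift_good ⟨k, hk⟩).1 _ hbA, cj_eq_iff] at h1
        exact h1.symm
      obtain ⟨c, hc⟩ := D.centreK _ hbK fun Y hY => by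
        have hYA : InA ρ L Y := fun l hl => hY l (D.le hl)
        refine (cj_eq_iff _ _).mp ?_
        rw [(D.lift_good b).1 Y hYA, cj_eq_iff]
        exact (hY b b.2).symm
      refine D.good_unique (k := (1 : G)) ⟨fun Y hY => ?_, (D.lift_good b).2⟩
        ⟨impl_one, one_pow _, map_one _⟩
      rw [map_one, cj_one, cj_eq_iff]
      show Commute (P b) Y
      rw [hc]
      exact (Commute.one_left Y).smul_left c
    · intro hb
      refine MonoidHom.ext fun k => ?_
      show ((κ b k) ^ D.baer.h)⁻¹ = 1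
      have : κ b k = 1 := sc_injective (V := V) (by
        rw [← hκ, map_one, show cm b k = 1 by simp [cm, hb, commutatorElement_def]]; rfl)
      rw [this, one_pow, inv_one]
  let m : ℕ := Nat.card K * (Finset.univ.filter fun b : K => D.lift b = 1).card
  have hJm : J * J = (m : ℂ) • 1 := by
    rw [hJsq, ← Finset.sum_filter_add_sum_filter_not Finset.univ (fun b : K => D.lift b = 1),
      Finset.sum_eq_zero (s := Finset.univ.filter fun b : K => ¬ D.lift b = 1), add_zero,
      Finset.sum_congr rfl (fun b hb => show (∑ k, ((χ b k : ℂˣ) : ℂ)) • P b =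
        ((Nat.card K : ℕ) : ℂ) • 1 by
        have hb' := (Finset.mem_filter.mp hb).2
        simp [(htriv b).mpr hb', P, hb', Nat.card_eq_fintype_card]), Finset.sum_const,
      ← Nat.cast_smul_eq_nsmul ℂ, smul_smul, ← Nat.cast_mul, mul_comm]
    intro b hb
    have hne : (Units.coeHom ℂ).comp (χ b) ≠ 1 := fun h => (Finset.mem_filter.mp hb).2
      ((htriv b).mp (MonoidHom.ext fun k => Units.ext (DFunLike.congr_fun h k)))
    rw [show (∑ k, ((χ b k : ℂˣ) : ℂ)) = 0 from sum_hom_units_eq_zero _ hne, zero_smul]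
  have hm : (m : ℂ) ≠ 0 := Nat.cast_ne_zero.mpr (mul_ne_zero Nat.card_pos.ne'
    (Finset.card_ne_zero.mpr ⟨1, by simp [lift_one]⟩))
  obtain ⟨r, hr⟩ := IsAlgClosed.exists_pow_nat_eq ((m : ℂ)⁻¹) Nat.two_pos
  refine ⟨r • J, ?_, ?_, ?_, ?_, ?_⟩
  · rw [smul_mul_smul_comm, hJm, smul_smul, ← sq, hr, inv_mul_cancel₀ hm, one_smul]
  · intro l hl
    exact (Commute.sum_left _ _ _ fun k _ => (D.lift k).2.1 l hl).smul_left r
  · intro c hc
    refine Commute.smul_left ?_ r
    refine ((cj_eq_iff (un ρ c) J).mp ?_).symm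
    let e : K ≃ K :=
      { toFun := fun k => ⟨c * k * c⁻¹, D.normalK.conj_mem k k.2 c⟩
        invFun := fun k => ⟨c⁻¹ * k * c, by simpa using D.normalK.conj_mem k k.2 c⁻¹⟩
        left_inv := fun k => Subtype.ext (by simp [mul_assoc])
        right_inv := fun k => Subtype.ext (by simp [mul_assoc]) }
    simp only [cj, J, Finset.mul_sum, Finset.sum_mul]
    exact Fintype.sum_equiv e
      _ _ fun k => congrArg (fun u : (Module.End ℂ V)ˣ => (u : Module.End ℂ V)) (D.lift_conj hc k)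
  · intro Y hY
    refine (Commute.sum_left _ _ _ fun k _ => ?_).smul_left r
    refine (cj_eq_iff _ _).mp ?_
    rw [(D.lift_good k).1 Y (fun l hl => hY l (D.le hl)), cj_eq_iff]
    exact (hY k k.2).symm
  · intro k hk Y hY
    let u := (D.lift ⟨k, hk⟩ : (Module.End ℂ V)ˣ)
    have huk : Impl ρ L u k := (D.lift_good ⟨k, hk⟩).1
    have hJA : InA ρ L J := fun l hl => Commute.sum_left _ _ _ fun x _ => (D.lift x).2.1 l hl
    have hJYJ : InA ρ L (J * Y * J) := fun l hl =>
      ((hJA l hl).mul_left (hY l hl)).mul_left (hJA l hl)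
    have h1 : (u : Module.End ℂ V) * J * u = J := hJinv ⟨k, hk⟩
    have h2 : J * (u : Module.End ℂ V) = ((u⁻¹ : (Module.End ℂ V)ˣ) : Module.End ℂ V) * J := by
      rw [Units.eq_inv_mul_iff_mul_eq, ← mul_assoc]; exact h1
    have h3 : ((u⁻¹ : (Module.End ℂ V)ˣ) : Module.End ℂ V) * J = J * (u : Module.End ℂ V) := h2.symm
    have h4 : (u : Module.End ℂ V) * J = J * ((u⁻¹ : (Module.End ℂ V)ˣ) : Module.End ℂ V) := by
      rw [Units.eq_mul_inv_iff_mul_eq]; exact h1
    have hkey : J * cj u Y * J = cj u⁻¹ (J * Y * J) := by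
      simp only [cj, inv_inv]
      calc J * ((u : Module.End ℂ V) * Y * ((u⁻¹ : (Module.End ℂ V)ˣ) : Module.End ℂ V)) * J
          = J * u * Y * (((u⁻¹ : (Module.End ℂ V)ˣ) : Module.End ℂ V) * J) := by
            simp only [mul_assoc]
        _ = ((u⁻¹ : (Module.End ℂ V)ˣ) : Module.End ℂ V) * J * Y * (J * u) := by rw [h2, h3]
        _ = _ := by simp only [mul_assoc]
    rw [huk Y hY, D.impl_inv huk _ hJYJ, cj_un, cj_un, inv_inv] at hkey
    simp only [smul_mul_assoc, mul_smul_comm]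
    rw [hkey]

end Datum

end Cfsg.Agent.OddSection
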