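/-
The trace identity of an involution inverting an abelian section.

* `trace_mulLeft_comp_mulRight`
* `trace_identity`
-/
import Cfsg.Agent.Lib.OddSection.Involution

set_option autoImplicit false
set_option linter.style.haveILetI false
set_option linter.unusedSectionVars false

namespace Cfsg.Agent.OddSection

open LinearMap

variable {V : Type*} [AddCommGroup V] [Module ℂ V] [FiniteDimensional ℂ V]

theorem trace_mulLeft_comp_mulRight (a b : Module.End ℂ V) :
    trace ℂ (Module.End ℂ V) (mulLeft ℂ a ∘ₗ mulRight ℂ b) =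
      trace ℂ V a * trace ℂ V b := by
  classical
  let bV := Module.finBasis ℂ V
  let Φ := LinearMap.toMatrixAlgEquiv bV
  have hconj : Φ.toLinearEquiv.conj (mulLeft ℂ a ∘ₗ mulRight ℂ b) =
      mulLeft ℂ (Φ a) ∘ₗ mulRight ℂ (Φ b) := by
    refine LinearMap.ext fun X => ?_
    simp [LinearEquiv.conj_apply]
  rw [← trace_conj' (mulLeft ℂ a ∘ₗ mulRight ℂ b) Φ.toLinearEquiv, hconj,
    trace_eq_matrix_trace ℂ bV a, trace_eq_matrix_trace ℂ bV b,
    trace_eq_matrix_trace ℂ (Matrix.stdBasis ℂ _ _), Matrix.trace, Fintype.sum_prod_type,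
    Matrix.trace, Matrix.trace, Finset.sum_mul_sum]
  refine Finset.sum_congr rfl fun p _ => Finset.sum_congr rfl fun q _ => ?_
  simp [LinearMap.toMatrix_apply, Matrix.stdBasis, Matrix.mul_apply, Pi.single_apply, ite_apply,
    Φ, LinearMap.toMatrixAlgEquiv_apply, Finset.sum_ite_eq', ite_mul]

variable {G : Type*} [Group G] (ρ : Representation ℂ G V)

/-- Conjugation on endomorphisms. -/
noncomputable def conjRep : Representation ℂ G (Module.End ℂ V) where
  toFun g := mulLeft ℂ (ρ g) ∘ₗ mulRight ℂ (ρ g⁻¹)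
  map_one' := by ext X; simp
  map_mul' a b := by ext X; simp [mul_assoc]

theorem conjRep_apply (g : G) (X : Module.End ℂ V) : conjRep ρ g X = ρ g * X * ρ g⁻¹ :=
  (mul_assoc _ _ _).symm

variable [Finite G]

/-- Averaging over a subgroup. -/
noncomputable def avg (M : Subgroup G) : Module.End ℂ (Module.End ℂ V) :=
  letI := Fintype.ofFinite M
  (Nat.card M : ℂ)⁻¹ • ∑ m : M, conjRep ρ m

theorem avg_eq (M : Subgroup G) [Fintype M] :
    avg ρ M = (Nat.card M : ℂ)⁻¹ • ∑ m : M, conjRep ρ m := by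
  rw [avg]; congr!

theorem avg_mul_conjRep (M : Subgroup G) {x : G} (hx : x ∈ M) :
    avg ρ M * conjRep ρ x = avg ρ M := by
  haveI := Fintype.ofFinite M
  rw [avg_eq, smul_mul_assoc, Finset.sum_mul]
  congr 1
  exact Fintype.sum_equiv (Equiv.mulRight ⟨x, hx⟩) _ _ fun m => (map_mul (conjRep ρ) _ _).symm

theorem conjRep_mul_avg (M : Subgroup G) {x : G} (hx : x ∈ M) :
    conjRep ρ x * avg ρ M = avg ρ M := by
  haveI := Fintype.ofFinite M
  rw [avg_eq, mul_smul_comm, Finset.mul_sum]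
  congr 1
  exact Fintype.sum_equiv (Equiv.mulLeft ⟨x, hx⟩) _ _ fun m => (map_mul (conjRep ρ) _ _).symm

theorem avg_mul_avg {L M : Subgroup G} (h : L ≤ M) : avg ρ M * avg ρ L = avg ρ M := by
  haveI := Fintype.ofFinite L
  rw [avg_eq ρ L, mul_smul_comm, Finset.mul_sum,
    Finset.sum_congr rfl fun l _ => avg_mul_conjRep ρ M (h l.2), Finset.sum_const,
    ← Nat.cast_smul_eq_nsmul ℂ, smul_smul, Finset.card_univ, Nat.card_eq_fintype_card,
    inv_mul_cancel₀ (Nat.cast_ne_zero.mpr Fintype.card_ne_zero), one_smul]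

theorem inA_avg (M : Subgroup G) (X : Module.End ℂ V) : InA ρ M (avg ρ M X) := by
  intro m hm
  have h := LinearMap.congr_fun (conjRep_mul_avg ρ M hm) X
  rw [Module.End.mul_apply, conjRep_apply] at h
  refine Commute.symm ?_
  show ρ m * avg ρ M X = avg ρ M X * ρ m
  conv_rhs => rw [← h, mul_assoc, ← map_mul, inv_mul_cancel, map_one, mul_one]

theorem avg_mul_conjRep_comm (L : Subgroup G) [L.Normal] (x : G) :
    conjRep ρ x * avg ρ L = avg ρ L * conjRep ρ x := by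
  haveI := Fintype.ofFinite L
  let e : L ≃ L :=
    { toFun := fun l => ⟨x * l * x⁻¹, (inferInstance : L.Normal).conj_mem l l.2 x⟩
      invFun := fun l => ⟨x⁻¹ * l * x, by simpa using (inferInstance : L.Normal).conj_mem l l.2 x⁻¹⟩
      left_inv := fun l => Subtype.ext (by simp [mul_assoc])
      right_inv := fun l => Subtype.ext (by simp [mul_assoc]) }
  rw [avg_eq, mul_smul_comm, smul_mul_assoc, Finset.mul_sum, Finset.sum_mul]
  congr 1
  exact Fintype.sum_equiv e _ _ fun l => by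
    rw [← map_mul, ← map_mul]; congr 1; simp [e]

omit [FiniteDimensional ℂ V] in
/-- The number of factorisations through `H` and `K`. -/
theorem sum_mul_eq {H K L : Subgroup G} [Fintype G] [Fintype H] [Fintype K] (hLH : L ≤ H) (hLK : L ≤ K)
    (hHK : ∀ x ∈ H, x ∈ K → x ∈ L) (hgen : ∀ g : G, ∃ h ∈ H, ∃ k ∈ K, g = h * k) (f : G → ℂ) :
    ∑ h : H, ∑ k : K, f (h * k) = (Nat.card L : ℂ) * ∑ g, f g := by
  haveI := Fintype.ofFinite L
  choose h₀ hh₀ k₀ hk₀ hg using hgen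
  have hmem : ∀ (h : H) (k : K), (h₀ (h * k))⁻¹ * h ∈ L := fun h k => by
    refine hHK _ (H.mul_mem (H.inv_mem (hh₀ _)) h.2) ?_
    have h1 := hg (h * k)
    have : (h₀ (h * k))⁻¹ * (h : G) = k₀ (h * k) * (k : G)⁻¹ := by
      rw [inv_mul_eq_iff_eq_mul, ← mul_assoc, ← h1, mul_inv_cancel_right]
    rw [this]
    exact K.mul_mem (hk₀ _) (K.inv_mem k.2)
  let e : H × K ≃ G × L :=
    { toFun := fun p => (p.1 * p.2, ⟨_, hmem p.1 p.2⟩)
      invFun := fun p => (⟨h₀ p.1 * p.2, H.mul_mem (hh₀ _) (hLH p.2.2)⟩,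
        ⟨(p.2 : G)⁻¹ * k₀ p.1, K.mul_mem (K.inv_mem (hLK p.2.2)) (hk₀ _)⟩)
      left_inv := fun p => by
        refine Prod.ext (Subtype.ext (mul_inv_cancel_left _ _)) (Subtype.ext ?_)
        show ((h₀ _)⁻¹ * (p.1 : G))⁻¹ * k₀ _ = p.2
        rw [mul_inv_rev, inv_inv, mul_assoc, ← hg, inv_mul_cancel_left]
      right_inv := fun p => by
        have h1 : h₀ p.1 * (p.2 : G) * ((p.2 : G)⁻¹ * k₀ p.1) = p.1 := by
          rw [mul_assoc, mul_inv_cancel_left, ← hg]
        refine Prod.ext h1 (Subtype.ext ?_)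
        show (h₀ (h₀ p.1 * (p.2 : G) * ((p.2 : G)⁻¹ * k₀ p.1)))⁻¹ * _ = _
        rw [h1]
        exact inv_mul_cancel_left _ _ }
  rw [← Fintype.sum_prod_type' (fun (h : H) (k : K) => f (h * k)),
    Fintype.sum_equiv e (fun p => f (p.1 * p.2)) (fun p => f p.1) (fun p => rfl),
    Fintype.sum_prod_type, Finset.mul_sum]
  refine Finset.sum_congr rfl fun g _ => ?_
  show ∑ _y : L, f g = _
  rw [Finset.sum_const, Finset.card_univ, nsmul_eq_mul, Nat.card_eq_fintype_card]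

omit [FiniteDimensional ℂ V] in
/-- In a group of odd order an element does not invert a nontrivial element of an abelian section. -/
theorem mem_of_inverted {L : Subgroup G} [L.Normal] (hodd : Odd (Nat.card G)) {h x : G}
    (hinv : h⁻¹ * x * h * x ∈ L) : x ∈ L := by
  have hne : (x : G ⧸ L) = 1 → x ∈ L := (QuotientGroup.eq_one_iff x).mp
  refine hne ?_
  set q : G ⧸ L := (x : G ⧸ L)
  set c : G ⧸ L := (h : G ⧸ L)⁻¹
  have h1 : c * q * c⁻¹ = q⁻¹ := by
    refine eq_inv_of_mul_eq_one_left ?_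
    rw [inv_inv]
    exact (QuotientGroup.eq_one_iff _).mpr hinv
  have hq : Odd (Nat.card (G ⧸ L)) := Odd.of_dvd_nat hodd (Subgroup.card_quotient_dvd_card L)
  have h2 : ∀ n : ℕ, Even n → c ^ n * q * (c ^ n)⁻¹ = q := by
    rintro n ⟨r, rfl⟩
    induction r with
    | zero => simp
    | succ r ih =>
      rw [show r + 1 + (r + 1) = 1 + 1 + (r + r) by ring, pow_add, pow_add, pow_one,
        show c * c * c ^ (r + r) * q * (c * c * c ^ (r + r))⁻¹ =
          c * c * (c ^ (r + r) * q * (c ^ (r + r))⁻¹) * (c * c)⁻¹ by group, ih,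
        show c * c * q * (c * c)⁻¹ = c * (c * q * c⁻¹) * c⁻¹ by group, h1,
        show c * q⁻¹ * c⁻¹ = (c * q * c⁻¹)⁻¹ by group, h1, inv_inv]
  have h3 := h2 (Nat.card (G ⧸ L) + 1) hq.add_one
  rw [pow_succ, pow_card_eq_one', one_mul, h1] at h3
  have h4 : q ^ 2 = 1 := by rw [sq]; nth_rw 1 [← h3]; exact inv_mul_cancel q
  obtain ⟨r, hr⟩ := hq
  have h5 : q ^ Nat.card (G ⧸ L) = 1 := pow_card_eq_one'
  rwa [hr, pow_add, pow_mul, h4, one_pow, one_mul, pow_one] at h5

variable [Fintype G]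

theorem trace_identity {H K L : Subgroup G} [Fintype H] [K.Normal] [L.Normal] (hLH : L ≤ H) (hLK : L ≤ K)
    (hHK : ∀ x ∈ H, x ∈ K → x ∈ L) (hgen : ∀ g : G, ∃ h ∈ H, ∃ k ∈ K, g = h * k)
    (hcomm : ∀ a ∈ K, ∀ b ∈ K, a * b * a⁻¹ * b⁻¹ ∈ L) (hodd : Odd (Nat.card G))
    {j : Module.End ℂ V} (hj : j * j = 1)
    (hjG : ∀ Y, InA ρ ⊤ Y → Commute j Y)
    (htw : ∀ k ∈ K, ∀ Y, InA ρ L Y → j * (ρ k * Y * ρ k⁻¹) * j = ρ k⁻¹ * (j * Y * j) * ρ k)
    (e e' : Module.End ℂ V) (he : ∀ g, Commute e (ρ g)) (he' : ∀ g, Commute e' (ρ g)) :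
    (Nat.card H : ℂ)⁻¹ *
        ∑ h : H, trace ℂ V (e * j * ρ (h : G)) * trace ℂ V (ρ (h : G)⁻¹ * j * e') =
      (Nat.card G : ℂ)⁻¹ * ∑ g : G, trace ℂ V (e * ρ g) * trace ℂ V (ρ g⁻¹ * e') := by
  classical
  haveI := Fintype.ofFinite K
  haveI := Fintype.ofFinite L
  let E : Module.End ℂ (Module.End ℂ V) := mulLeft ℂ e ∘ₗ mulRight ℂ e'
  let J : Module.End ℂ (Module.End ℂ V) := mulLeft ℂ j ∘ₗ mulRight ℂ j
  let f : G → ℂ := fun g => trace ℂ _ (E * J * conjRep ρ g * avg ρ L)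
  have hEJ : ∀ g, trace ℂ _ (E * J * conjRep ρ g) =
      trace ℂ V (e * j * ρ g) * trace ℂ V (ρ g⁻¹ * j * e') := fun g => by
    rw [← trace_mulLeft_comp_mulRight]
    congr 1
  have hE : ∀ g, trace ℂ _ (E * conjRep ρ g) = trace ℂ V (e * ρ g) * trace ℂ V (ρ g⁻¹ * e') := fun g => by
    rw [← trace_mulLeft_comp_mulRight]
    congr 1
  have hEcomm : ∀ g, conjRep ρ g * E = E * conjRep ρ g := fun g => LinearMap.ext fun X => by
    simp only [E, Module.End.mul_apply, conjRep_apply, LinearMap.comp_apply, mulLeft_apply,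
      mulRight_apply]
    calc ρ g * (e * (X * e')) * ρ g⁻¹ = ρ g * e * X * (e' * ρ g⁻¹) := by simp only [mul_assoc]
      _ = e * ρ g * X * (ρ g⁻¹ * e') := by rw [(he g).eq, (he' g⁻¹).eq]
      _ = _ := by simp only [mul_assoc]
  -- `f (k g) = f (g k⁻¹)`
  have hf : ∀ k ∈ K, ∀ g, f (k * g) = f (g * k⁻¹) := by
    intro k hk g
    have h1 : J * conjRep ρ k * (conjRep ρ g * avg ρ L) =
        conjRep ρ k⁻¹ * J * (conjRep ρ g * avg ρ L) := by
      refine LinearMap.ext fun X => ?_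
      simp only [Module.End.mul_apply]
      have hY : InA ρ L (conjRep ρ g (avg ρ L X)) := by
        have := LinearMap.congr_fun (avg_mul_conjRep_comm ρ L g) X
        rw [Module.End.mul_apply, Module.End.mul_apply] at this
        rw [this]
        exact inA_avg ρ L _
      generalize conjRep ρ g (avg ρ L X) = Y at hY
      simpa [J, conjRep_apply, mul_assoc] using htw k hk Y hY
    calc f (k * g) = trace ℂ _ (E * (J * conjRep ρ k * (conjRep ρ g * avg ρ L))) := by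
          simp only [f, map_mul, mul_assoc]
      _ = trace ℂ _ (conjRep ρ k⁻¹ * (E * J * conjRep ρ g * avg ρ L)) := by
          rw [h1]; simp only [← mul_assoc, hEcomm]
      _ = trace ℂ _ (E * J * conjRep ρ g * avg ρ L * conjRep ρ k⁻¹) := trace_mul_comm _ _ _
      _ = f (g * k⁻¹) := by
          simp only [f, map_mul, mul_assoc, avg_mul_conjRep_comm]
  have hfL : ∀ g, ∀ l ∈ L, f (g * l) = f g := fun g l hl => by
    simp only [f, map_mul, mul_assoc, conjRep_mul_avg ρ L hl]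
  -- hence `f` is constant on `h K`
  have hfK : ∀ h ∈ H, ∀ y ∈ K, f (h * y) = f h := by
    intro h _ y hy
    let mk : G → G := fun x => h⁻¹ * x * h * x
    have hmk : ∀ x ∈ K, mk x ∈ K := fun x hx =>
      K.mul_mem (by simpa using (inferInstance : K.Normal).conj_mem x hx h⁻¹) hx
    let q : K →* G ⧸ L := (QuotientGroup.mk' L).comp K.subtype
    have hab : ∀ a ∈ K, ∀ b ∈ K, (a : G ⧸ L) * b = b * a := fun a ha b hb => by
      rw [← commutatorElement_eq_one_iff_mul_comm, ← QuotientGroup.mk'_apply,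
        ← QuotientGroup.mk'_apply, ← map_commutatorElement, QuotientGroup.mk'_apply,
        QuotientGroup.eq_one_iff]
      exact hcomm a ha b hb
    let F : q.range → q.range := fun v =>
      ⟨q ⟨mk (v.2.choose : G), hmk _ v.2.choose.2⟩, ⟨_, rfl⟩⟩
    have hF : ∀ v : q.range, ((F v : q.range) : G ⧸ L) = (h : G ⧸ L)⁻¹ * v * h * v := fun v => by
      conv_rhs => rw [← v.2.choose_spec]
      rfl
    have hinj : Function.Injective F := by
      intro u v huv
      have h1 := congrArg Subtype.val huv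
      rw [hF, hF] at h1
      obtain ⟨a, ha⟩ := u.2
      obtain ⟨b, hb⟩ := v.2
      have hcomm' : (b : G ⧸ L) * (a : G ⧸ L)⁻¹ = (a : G ⧸ L)⁻¹ * (b : G ⧸ L) := by
        rw [← QuotientGroup.mk_inv]; exact hab b b.2 _ (K.inv_mem a.2)
      have hx : ((a : G) : G ⧸ L)⁻¹ * (b : G ⧸ L) = 1 := by
        rw [← QuotientGroup.mk_inv, ← QuotientGroup.mk_mul, QuotientGroup.eq_one_iff]
        refine mem_of_inverted hodd (h := h) ?_
        rw [← QuotientGroup.eq_one_iff]
        rw [← ha, ← hb] at h1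
        change (h : G ⧸ L)⁻¹ * (a : G ⧸ L) * h * a = (h : G ⧸ L)⁻¹ * (b : G ⧸ L) * h * b at h1
        simp only [QuotientGroup.mk_mul, QuotientGroup.mk_inv]
        calc (h : G ⧸ L)⁻¹ * ((a : G ⧸ L)⁻¹ * b) * h * ((a : G ⧸ L)⁻¹ * b)
            = ((h : G ⧸ L)⁻¹ * (a : G ⧸ L) * h)⁻¹ * ((h : G ⧸ L)⁻¹ * (b : G ⧸ L) * h *
                ((a : G ⧸ L)⁻¹ * b)) := by group
          _ = ((h : G ⧸ L)⁻¹ * (a : G ⧸ L) * h)⁻¹ * ((h : G ⧸ L)⁻¹ * (b : G ⧸ L) * h *
                ((b : G ⧸ L) * (a : G ⧸ L)⁻¹)) := by rw [hcomm']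
          _ = ((h : G ⧸ L)⁻¹ * (a : G ⧸ L) * h)⁻¹ * ((h : G ⧸ L)⁻¹ * (b : G ⧸ L) * h *
                (b : G ⧸ L) * (a : G ⧸ L)⁻¹) := by group
          _ = 1 := by rw [← h1]; group
      exact Subtype.ext (by rw [← ha, ← hb]; exact inv_mul_eq_one.mp hx)
    obtain ⟨v, hv⟩ := (Finite.injective_iff_surjective.mp hinj) ⟨q ⟨y, hy⟩, ⟨_, rfl⟩⟩
    set x : K := v.2.choose
    have hxy : (mk x)⁻¹ * y ∈ L := QuotientGroup.eq.mp (congrArg Subtype.val hv)
    have h1 : f (h * y) = f (h * mk x) := by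
      rw [show h * y = h * mk x * ((mk x)⁻¹ * y) by group]
      exact hfL _ _ hxy
    rw [h1, show h * mk x = (x : G) * (h * x) by simp only [mk]; group, hf _ x.2,
      mul_inv_cancel_right]
  -- assemble
  have hcard : (Nat.card H : ℂ) * Nat.card K = Nat.card L * Nat.card G := by
    have := sum_mul_eq hLH hLK hHK hgen (fun _ => (1 : ℂ))
    simpa [Finset.sum_const, Nat.card_eq_fintype_card] using this
  have hJG : J * avg ρ ⊤ = avg ρ ⊤ := LinearMap.ext fun X => by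
    have := hjG _ (inA_avg ρ ⊤ X)
    show j * ((avg ρ ⊤ X) * j) = avg ρ ⊤ X
    rw [← mul_assoc, this.eq, mul_assoc, hj, mul_one]
  have hsum : (Nat.card G : ℂ)⁻¹ * ∑ g : G, f g =
      (Nat.card G : ℂ)⁻¹ * ∑ g : G, trace ℂ V (e * ρ g) * trace ℂ V (ρ g⁻¹ * e') := by
    have hG : (Nat.card (⊤ : Subgroup G) : ℂ)⁻¹ • ∑ g : G, conjRep ρ g = avg ρ ⊤ := by
      haveI := Fintype.ofFinite (⊤ : Subgroup G)
      rw [avg_eq]
      congr 1
      exact (Fintype.sum_equiv Subgroup.topEquiv.toEquiv _ _ fun g => rfl).symm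
    rw [Subgroup.card_top] at hG
    calc (Nat.card G : ℂ)⁻¹ * ∑ g : G, f g
        = trace ℂ _ (E * J * ((Nat.card G : ℂ)⁻¹ • ∑ g : G, conjRep ρ g) * avg ρ L) := by
          simp only [f, mul_smul_comm, smul_mul_assoc, map_smul, Finset.mul_sum, Finset.sum_mul,
            map_sum, smul_eq_mul]
      _ = trace ℂ _ (E * avg ρ ⊤) := by
          rw [hG, mul_assoc _ (avg ρ ⊤), avg_mul_avg ρ le_top, mul_assoc, hJG]
      _ = _ := by
          rw [← hG, mul_smul_comm, map_smul, Finset.mul_sum, map_sum, smul_eq_mul]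
          simp only [hE]
  rw [← hsum]
  calc (Nat.card H : ℂ)⁻¹ *
        ∑ h : H, trace ℂ V (e * j * ρ (h : G)) * trace ℂ V (ρ (h : G)⁻¹ * j * e')
      = trace ℂ _ (E * J * avg ρ H) := by
        rw [avg_eq, mul_smul_comm, map_smul, Finset.mul_sum (a := E * J), map_sum, smul_eq_mul]
        simp only [hEJ]
    _ = (Nat.card H : ℂ)⁻¹ * ∑ h : H, f h := by
        rw [← avg_mul_avg ρ hLH, avg_eq ρ H]
        simp only [f, mul_smul_comm, smul_mul_assoc, map_smul, Finset.mul_sum, Finset.sum_mul,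
          map_sum, smul_eq_mul, mul_assoc]
    _ = (Nat.card G : ℂ)⁻¹ * ∑ g : G, f g := by
        have h1 := sum_mul_eq hLH hLK hHK hgen f
        simp only [fun (h : H) (k : K) => hfK h h.2 k k.2, Finset.sum_const, Finset.card_univ,
          ← Nat.card_eq_fintype_card, nsmul_eq_mul, ← Finset.mul_sum] at h1
        have hK : (Nat.card K : ℂ) ≠ 0 := Nat.cast_ne_zero.mpr Nat.card_pos.ne'
        have hH : (Nat.card H : ℂ) ≠ 0 := Nat.cast_ne_zero.mpr Nat.card_pos.ne'
        have hG : (Nat.card G : ℂ) ≠ 0 := Nat.cast_ne_zero.mpr Nat.card_pos.ne'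
        have hL : (Nat.card L : ℂ) ≠ 0 := Nat.cast_ne_zero.mpr Nat.card_pos.ne'
        field_simp
        have h2 : (Nat.card K : ℂ) * ((∑ h : H, f h) * Nat.card G) =
            (Nat.card K : ℂ) * ((∑ g : G, f g) * Nat.card H) := by
          linear_combination (Nat.card G : ℂ) * h1 - (∑ g : G, f g) * hcard
        linear_combination mul_left_cancel₀ hK h2

end Cfsg.Agent.OddSection
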