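/-
The correspondence over an invariant character of the bottom of an abelian section.

* `Setup`: `G = K C`, `H = L C`, `H ∩ K = L`, `K/L` abelian, `S` coprime, `C` the fixed points
* `Setup.exists_unique_above`: the invariant character of `K` over an invariant `φ`
* `Setup.exists_map`: the map `Irr(G|θ) → Irr(H|φ)`
* `Setup.core_forward`, `Setup.core_injective`, `Setup.core_surjective`
-/
import Cfsg.Agent.Lib.OddSection.Isotypic
import Cfsg.Agent.Lib.OddSection.Trace
import Cfsg.Agent.Lib.OddSection.Basic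
import Cfsg.Agent.Lib.Coprime.Action

set_option autoImplicit false
set_option linter.style.haveILetI false
set_option linter.unusedSectionVars false

namespace Cfsg.Agent.OddSection

open Cfsg Cfsg.Agent.Char
open Cfsg.Agent.GlauberChar (IsFixed)

variable {G : Type*} [Group G] {S : Type*} [Group S]

/-- The standing hypotheses. -/
structure Setup (act : S →* MulAut G) (K L H : Subgroup G) : Prop where
  odd : Odd (Nat.card G)
  cop : (Nat.card G).Coprime (Nat.card S)
  solv : Group.IsSolvable G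
  normalK : K.Normal
  normalL : L.Normal
  le : L ≤ K
  leH : L ≤ H
  comm : ∀ a ∈ K, ∀ b ∈ K, a * b * a⁻¹ * b⁻¹ ∈ L
  stableK : ∀ s, ∀ k ∈ K, act s k ∈ K
  stableL : ∀ s, ∀ l ∈ L, act s l ∈ L
  gen : ∀ g, ∃ k ∈ K, ∃ c, (∀ s, act s c = c) ∧ g = k * c
  hgen : ∀ h ∈ H, ∃ l ∈ L, ∃ c, (∀ s, act s c = c) ∧ h = l * c
  fixH : ∀ c, (∀ s, act s c = c) → c ∈ H
  fixK : ∀ c ∈ K, (∀ s, act s c = c) → c ∈ L

/-- Odd multiplicity on restriction to `H`. -/
def OddMult [Fintype G] {H : Subgroup G} [Fintype H] (χ : G → ℂ) (ψ : H → ℂ) : Prop :=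
  ∃ m : ℕ, classInner (fun h : H => χ h) ψ = m ∧ Odd m

theorem OddMult.ne_zero [Fintype G] {H : Subgroup G} [Fintype H] {χ : G → ℂ} {ψ : H → ℂ}
    (h : OddMult χ ψ) : classInner (fun x : H => χ x) ψ ≠ 0 := by
  obtain ⟨m, hm, hodd⟩ := h
  rw [hm, Nat.cast_ne_zero]
  exact hodd.pos.ne'

namespace Setup

variable {act : S →* MulAut G} {K L H : Subgroup G} (P : Setup act K L H)

include P

theorem stableH (s : S) : ∀ h ∈ H, act s h ∈ H := by
  intro h hh
  obtain ⟨l, hl, c, hc, rfl⟩ := P.hgen h hh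
  rw [map_mul, hc s]
  exact H.mul_mem (P.leH (P.stableL s l hl)) (P.fixH c hc)

theorem inf_eq (x : G) (hxH : x ∈ H) (hxK : x ∈ K) : x ∈ L := by
  obtain ⟨l, hl, c, hc, rfl⟩ := P.hgen x hxH
  exact L.mul_mem hl (P.fixK c ((K.mul_mem_cancel_left (P.le hl)).mp hxK) hc)

theorem genHK (g : G) : ∃ h ∈ H, ∃ k ∈ K, g = h * k := by
  obtain ⟨k, hk, c, hc, rfl⟩ := P.gen g
  exact ⟨c, P.fixH c hc, c⁻¹ * k * c, by simpa using P.normalK.conj_mem k hk c⁻¹, by group⟩

variable [Finite G] [Finite S]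

theorem fixmod (M : Subgroup G) (hLM : L ≤ M) (hMK : M ≤ K) (hM : ∀ s, ∀ x ∈ M, act s x ∈ M)
    (k : G) (hk : k ∈ K) (h : ∀ s, act s k * k⁻¹ ∈ M) : k ∈ M := by
  letI : MulDistribMulAction S G := MulDistribMulAction.compHom G act
  obtain ⟨c, hc, hck⟩ := Coprime.exists_smul_fixed_of_coset (A := S) P.cop.symm (Or.inr P.solv)
    (N := M) (fun a x hx => hM a x hx) (g := k) h
  have hcK : c ∈ K := by simpa using K.mul_mem (hMK hck) hk
  have := M.mul_mem (M.inv_mem hck) (hLM (P.fixK c hcK hc))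
  simpa [mul_assoc] using this

variable [Fintype G] [Fintype K] [Fintype L] [Fintype H] [Fintype S]
  {φ : L → ℂ} (hφ : IsIrrCharacter L φ)
  (hφG : ∀ (g : G) (l : L), φ ⟨g * l * g⁻¹, P.normalL.conj_mem l l.2 g⟩ = φ l)

include hφ hφG

theorem conjFun_phi (g : G) : haveI := P.normalL; CliffordChar.conjFun L g φ = φ := by
  haveI := P.normalL
  funext l
  rw [CliffordChar.conjFun_apply]
  have := hφG g⁻¹ l
  simp only [inv_inv] at this
  exact this

theorem restrict_phi {χ : G → ℂ} (hχ : IsIrrCharacter G χ)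
    (h : classInner (fun l : L => χ l) φ ≠ 0) (l : L) :
    χ l = classInner (fun l : L => χ l) φ * φ l := by
  haveI := P.normalL
  exact congrFun (CharApp.restrict_invariant L hχ hφ h (P.conjFun_phi hφ hφG)) l

/-- A constituent of a character over `φ` is over `φ`. -/
theorem over_phi {χ : G → ℂ} (hχ : IsIrrCharacter G χ) (h : classInner (fun l : L => χ l) φ ≠ 0)
    (M : Subgroup G) [Fintype M] (hLM : L ≤ M) {ψ : M → ℂ} (hψ : IsIrrCharacter M ψ)
    (h' : classInner (fun x : M => χ x) ψ ≠ 0) :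
    classInner (fun l : L => ψ ⟨(l : G), hLM l.2⟩) φ ≠ 0 := by
  obtain ⟨η, hη⟩ := CharApp.exists_constituent
    (IsCharacter.comp_hom (IsIrrCharacter.isCharacter hψ) (Subgroup.inclusion hLM))
    (fun h0 => IsIrrCharacter.apply_one_ne_zero hψ h0)
  have h1 := CharApp.over_trans (Subgroup.inclusion hLM)
    (IsCharacter.restrict (IsIrrCharacter.isCharacter hχ) M) hψ η.2 h' hη
  have hηφ : (η : L → ℂ) = φ := by
    by_contra hne
    refine h1 ?_
    show classInner (fun l : L => χ l) (η : L → ℂ) = 0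
    rw [show (fun l : L => χ l) = classInner (fun l : L => χ l) φ • φ from
      funext (P.restrict_phi hφ hφG hχ h), classInner_smul_left,
      classInner_irr_of_ne hφ η.2 (Ne.symm hne), mul_zero]
  rw [hηφ] at hη
  exact hη

variable (hφS : IsFixed (resAct act L P.stableL) φ)

include hφS

/-- The invariant character of `K` over `φ`. -/
theorem exists_unique_above :
    ∃ θ : K → ℂ, IsIrrCharacter K θ ∧ classInner (fun l : L => θ ⟨(l : G), P.le l.2⟩) φ ≠ 0 ∧
      IsFixed (resAct act K P.stableK) θ ∧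
      (∀ g, haveI := P.normalK; CliffordChar.conjFun K g θ = θ) ∧
      ∀ θ' : K → ℂ, IsIrrCharacter K θ' → classInner (fun l : L => θ' ⟨(l : G), P.le l.2⟩) φ ≠ 0 →
        IsFixed (resAct act K P.stableK) θ' → θ' = θ := by
  classical
  haveI := P.normalK
  haveI := P.normalL
  let N := L.subgroupOf K
  haveI := Fintype.ofFinite N
  let e : N ≃* L := Subgroup.subgroupOfEquivOfLe P.le
  have hab : ∀ x y : K, x * y * x⁻¹ * y⁻¹ ∈ N := fun x y => P.comm x x.2 y y.2
  have hNS : ∀ s, ∀ n : N, resAct act K P.stableK s (n : K) ∈ N := fun s n => P.stableL s _ n.2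
  have hcop : N.index.Coprime (Nat.card S) :=
    P.cop.coprime_dvd_left ((Subgroup.index_dvd_card N).trans (Subgroup.card_subgroup_dvd_card K))
  obtain ⟨θ, hθ, hover, hfix⟩ := CharApp.exists_fixed_abelian N hab (resAct act K P.stableK) hcop hNS
    (θ := fun n => φ (e n)) (IsIrrCharacter.comp_equiv hφ e) (fun s n => hφS s (e n))
  have hovI : ∀ θ' : K → ℂ, classInner (fun n : N => θ' n) (fun n => φ (e n)) =
      classInner (fun l : L => θ' ⟨(l : G), P.le l.2⟩) φ := fun θ' =>
    classInner_comp_equiv e (fun l : L => θ' ⟨(l : G), P.le l.2⟩) φ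
  -- uniqueness
  have huniq : ∀ θ' : K → ℂ, IsIrrCharacter K θ' →
      classInner (fun l : L => θ' ⟨(l : G), P.le l.2⟩) φ ≠ 0 →
      IsFixed (resAct act K P.stableK) θ' → θ' = θ := by
    intro θ' hθ' hover' hfix'
    obtain ⟨l, hl1, hl⟩ := CharApp.exists_linear_twist_of_abelian_quotient N hab
      (IsIrrCharacter.comp_equiv hφ e) hθ hθ' hover (by rw [hovI]; exact hover')
    have hls : ∀ s, θ * (fun x => l (resAct act K P.stableK s x)) = θ * (l : K → ℂ) := fun s => by
      funext x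
      have h1 := congrFun hl x
      have h2 := congrFun hl (resAct act K P.stableK s x)
      simp only [Pi.mul_apply] at h1 h2 ⊢
      rw [← h1, ← hfix s x, ← h2, hfix' s x]
    have hprod := CharApp.mul_prod_congr θ Finset.univ (f := fun s : S => fun x => l (resAct act K P.stableK s x))
      (g := fun _ => (l : K → ℂ)) (fun s _ => hls s)
    -- the product is an invariant linear character, hence trivial
    let μ : K →* ℂ :=
      { toFun := fun x => ∏ s : S, l (resAct act K P.stableK s x)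
        map_one' := by simp
        map_mul' := fun a b => by simp [Finset.prod_mul_distrib] }
    have hμinv : ∀ t x, μ (resAct act K P.stableK t x) = μ x := fun t x =>
      Fintype.prod_equiv (Equiv.mulRight t) _ _ fun s => by rw [Equiv.coe_mulRight, map_mul]; rfl
    have hμN : ∀ n : N, μ n = 1 := fun n => Finset.prod_eq_one fun s _ => hl1 ⟨_, hNS s n⟩
    let M : Subgroup G :=
      { carrier := {x | ∃ hx : x ∈ K, μ ⟨x, hx⟩ = 1}
        one_mem' := ⟨K.one_mem, map_one μ⟩
        mul_mem' := fun {a b} ⟨ha, ha'⟩ ⟨hb, hb'⟩ => ⟨K.mul_mem ha hb, by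
          rw [show (⟨a * b, K.mul_mem ha hb⟩ : K) = ⟨a, ha⟩ * ⟨b, hb⟩ from rfl, map_mul, ha', hb', one_mul]⟩
        inv_mem' := fun {a} ⟨ha, ha'⟩ => ⟨K.inv_mem ha, by
          have h1 : μ (⟨a, ha⟩⁻¹ * ⟨a, ha⟩) = 1 := by rw [inv_mul_cancel, map_one]
          rw [map_mul, ha', mul_one] at h1
          exact h1⟩ }
    have hμ1 : ∀ x : K, μ x = 1 := fun x => by
      obtain ⟨_, h⟩ := P.fixmod M (fun a ha => ⟨P.le ha, hμN ⟨⟨a, P.le ha⟩, ha⟩⟩) (fun a ha => ha.1)
        (fun s a ⟨ha, ha'⟩ => ⟨P.stableK s a ha, (hμinv s ⟨a, ha⟩).trans ha'⟩) x x.2 (fun s =>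
          ⟨K.mul_mem (P.stableK s x x.2) (K.inv_mem x.2), by
            rw [show (⟨act s x * (x : G)⁻¹, _⟩ : K) = resAct act K P.stableK s x * x⁻¹ from rfl,
              map_mul, hμinv, ← map_mul, mul_inv_cancel, map_one]⟩)
      exact h
    have hpow : θ * (l : K → ℂ) ^ Nat.card S = θ := by
      have h0 := hprod
      rw [Finset.prod_const, Finset.card_univ, ← Nat.card_eq_fintype_card] at h0
      rw [← h0]
      funext x
      have h1 := hμ1 x
      simp only [μ, MonoidHom.coe_mk, OneHom.coe_mk] at h1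
      simp [Finset.prod_apply, h1]
    obtain ⟨a, ha⟩ : ∃ a : ℕ, ∀ x, l x ^ (Nat.card S * a) = l x := by
      have hlp : ∀ x, l x ^ N.index = 1 := fun x => by
        rw [← map_pow]; exact hl1 ⟨_, N.pow_index_mem x⟩
      rcases Nat.lt_or_ge 1 N.index with hi | hi
      · obtain ⟨a, -, ha⟩ := Nat.exists_mul_mod_eq_one_of_coprime hcop.symm hi
        exact ⟨a, fun x => by rw [pow_eq_pow_mod _ (hlp x), ha, pow_one]⟩
      · have h0 : N.index ≠ 0 := Subgroup.index_ne_zero_of_finite
        refine ⟨0, fun x => ?_⟩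
        have := hlp x
        rw [show N.index = 1 by omega, pow_one] at this
        rw [mul_zero, pow_zero, this]
    have h1 := CharApp.mul_pow_congr (a := (l : K → ℂ) ^ Nat.card S) (b := 1) (by rw [hpow, mul_one]) a
    rw [one_pow, mul_one, ← pow_mul, show (l : K → ℂ) ^ (Nat.card S * a) = (l : K → ℂ) from funext ha] at h1
    rw [hl, h1]
  refine ⟨θ, hθ, (hovI θ) ▸ hover, hfix, fun g => ?_, huniq⟩
  obtain ⟨k, hk, c, hc, rfl⟩ := P.gen g
  rw [CliffordChar.conjFun_mul]
  have hcθ : CliffordChar.conjFun K c θ = θ := by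
    refine huniq _ (CliffordChar.isIrr_conjFun K c hθ) ?_ fun s x => ?_
    · let e' : MulAut L := MulAut.conjNormal c⁻¹
      have h1 : (fun l : L => CliffordChar.conjFun K c θ ⟨(l : G), P.le l.2⟩) =
          fun l : L => (fun l : L => θ ⟨(l : G), P.le l.2⟩) (e' l) := funext fun l => by
        rw [CliffordChar.conjFun_apply]
        congr 1
        exact Subtype.ext (by simp [e'])
      have h2 : φ = fun l : L => φ (e' l) := funext fun l => by
        rw [← hφG c⁻¹ l]
        congr 1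
      rw [h1]
      nth_rw 1 [h2]
      exact ne_of_eq_of_ne (classInner_comp_equiv e' (fun l : L => θ ⟨(l : G), P.le l.2⟩) φ)
        ((hovI θ) ▸ hover)
    · rw [CliffordChar.conjFun_apply, CliffordChar.conjFun_apply]
      refine Eq.trans ?_ (hfix s _)
      congr 1
      exact Subtype.ext (by simp [hc s])
  rw [hcθ]
  exact (CharApp.mem_inertia K).mp (CharApp.le_inertia K (IsIrrCharacter.isClassFunction hθ) hk)

variable {θ : K → ℂ} (hθ : IsIrrCharacter K θ)
  (hθL : classInner (fun l : L => θ ⟨(l : G), P.le l.2⟩) φ ≠ 0)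
  (hθS : IsFixed (resAct act K P.stableK) θ)
  (hθG : ∀ g, haveI := P.normalK; CliffordChar.conjFun K g θ = θ)

include hθ hθL hθS hθG

omit hθS in
theorem over_of_over_theta {χ : G → ℂ} (hχ : IsIrrCharacter G χ)
    (h : classInner (fun k : K => χ k) θ ≠ 0) : classInner (fun l : L => χ l) φ ≠ 0 :=
  CharApp.over_trans (Subgroup.inclusion P.le)
    (IsCharacter.restrict (IsIrrCharacter.isCharacter hχ) K) hθ hφ h hθL

set_option maxHeartbeats 1000000 in
/-- The map from the characters of `G` over `θ` to the characters of `H` over `φ`. -/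
theorem exists_map :
    ∃ F : {χ : IrrCharacter G // classInner (fun k : K => (χ : G → ℂ) k) θ ≠ 0} → IrrCharacter H,
      Function.Injective F ∧ (∀ i, OddMult (i.1 : G → ℂ) (F i : H → ℂ)) ∧
      (∀ i (η : IrrCharacter H), OddMult (i.1 : G → ℂ) (η : H → ℂ) → η = F i) ∧
      ∀ ψ : IrrCharacter H,
        classInner (fun l : L => (ψ : H → ℂ) ⟨(l : G), P.leH l.2⟩) φ ≠ 0 → ∃ i, F i = ψ := by
  classical
  haveI := P.normalK
  haveI := P.normalL
  let I := {χ : IrrCharacter G // classInner (fun k : K => (χ : G → ℂ) k) θ ≠ 0}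
  haveI := Fintype.ofFinite (IrrCharacter G)
  haveI := Fintype.ofFinite (IrrCharacter H)
  haveI : Nonempty I := by
    obtain ⟨χ, hχ, h⟩ := CharApp.exists_over K hθ
    exact ⟨⟨⟨χ, hχ⟩, h⟩⟩
  choose n r hr hrc using fun i : I => i.1.2
  let ρ : Representation ℂ G (∀ i, Fin (n i) → ℂ) := piRep r
  haveI : Nontrivial (∀ i, Fin (n i) → ℂ) := by
    obtain ⟨i⟩ := ‹Nonempty I›
    haveI := hr i
    haveI := Char.nontrivial_of_isIrreducible (r i)
    exact Pi.nontrivial_at i
  choose m hm using fun i : I => IsCharacter.classInner_nat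
    (IsCharacter.restrict (IsIrrCharacter.isCharacter i.1.2) K) (IsIrrCharacter.isCharacter hθ)
  obtain ⟨a, ha⟩ := IsCharacter.classInner_nat
    (IsCharacter.comp_hom (IsIrrCharacter.isCharacter hθ) (Subgroup.inclusion P.le))
    (IsIrrCharacter.isCharacter hφ)
  have hK : ∀ (i : I) (k : K), (i.1 : G → ℂ) k = (m i : ℂ) * θ k := fun i k => by
    rw [← hm i]
    exact congrFun (CharApp.restrict_invariant K i.1.2 hθ i.2 hθG) k
  have hover : ∀ i : I, classInner (fun l : L => (i.1 : G → ℂ) l) φ ≠ 0 := fun i =>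
    P.over_of_over_theta hφ hφG hφS hθ hθL hθG i.1.2 i.2
  choose q hq using fun i : I => IsCharacter.classInner_nat
    (IsCharacter.restrict (IsIrrCharacter.isCharacter i.1.2) L) (IsIrrCharacter.isCharacter hφ)
  have hL : ∀ (i : I) (l : L), (i.1 : G → ℂ) l = (q i : ℂ) * φ l := fun i l => by
    rw [← hq i]; exact P.restrict_phi hφ hφG i.1.2 (hover i) l
  have hρc : ∀ g, ρ.character g = ∑ i : I, (i.1 : G → ℂ) g := fun g => by
    rw [character_piRep]; exact Finset.sum_congr rfl fun i _ => congrFun (hrc i) g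
  let ρL : Representation ℂ L (∀ i, Fin (n i) → ℂ) := ρ.comp L.subtype
  have hρL : ρL.character = ((∑ i, q i : ℕ) : ℂ) • φ := funext fun l => by
    show ρ.character (l : G) = _
    rw [hρc, Finset.sum_congr rfl fun i _ => hL i l, Pi.smul_apply, smul_eq_mul, Nat.cast_sum,
      Finset.sum_mul]
  let ρK : Representation ℂ K (∀ i, Fin (n i) → ℂ) := ρ.comp K.subtype
  have hρK : ρK.character = ((∑ i, m i : ℕ) : ℂ) • θ := funext fun k => by
    show ρ.character (k : G) = _
    rw [hρc, Finset.sum_congr rfl fun i _ => hK i k, Pi.smul_apply, smul_eq_mul, Nat.cast_sum,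
      Finset.sum_mul]
  -- the datum
  have hD : Datum ρ act K L := by
    refine ⟨P.le, P.normalK, P.normalL, P.comm, P.odd, P.cop, P.stableK, P.stableL, P.fixmod, ?_,
      fun Z hZ hZc => commutant_center ρL hφ hρL Z (fun l => hZ l l.2) (fun Y hY => hZc Y fun l hl => hY ⟨l, hl⟩),
      fun Z hZ hZc => commutant_center ρK hθ hρK Z (fun l => hZ l l.2) (fun Y hY => hZc Y fun l hl => hY ⟨l, hl⟩),
      fun k _ => ?_⟩
    · intro s
      have hperm : ∀ (t : S) (i : I), classInner (fun x : K => (i.1 : G → ℂ) (act t x)) θ ≠ 0 := by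
        intro t i
        have h := classInner_comp_equiv (resAct act K P.stableK t) (fun x : K => (i.1 : G → ℂ) x) θ
        rw [show (fun x => θ (resAct act K P.stableK t x)) = θ from funext (hθS t)] at h
        intro h0; exact i.2 (h.symm.trans h0)
      let π : I ≃ I :=
        { toFun := fun i => ⟨⟨_, IsIrrCharacter.comp_equiv i.1.2 (act s)⟩, hperm s i⟩
          invFun := fun i => ⟨⟨_, IsIrrCharacter.comp_equiv i.1.2 (act s⁻¹)⟩, hperm s⁻¹ i⟩
          left_inv := fun i => Subtype.ext (Subtype.ext (funext fun g => by simp))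
          right_inv := fun i => Subtype.ext (Subtype.ext (funext fun g => by simp)) }
      let ρ' : Representation ℂ G (∀ i, Fin (n i) → ℂ) := ρ.comp (act s).toMonoidHom
      obtain ⟨T⟩ := equiv_of_character_eq ρ ρ' (funext fun g => by
        show ρ.character g = ρ.character (act s g)
        rw [hρc, hρc]
        exact (Fintype.sum_equiv π _ _ fun i => rfl).symm)
      refine ⟨⟨T.toLinearEquiv.toLinearMap, T.toLinearEquiv.symm.toLinearMap,
        LinearMap.ext fun v => T.toLinearEquiv.apply_symm_apply v,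
        LinearMap.ext fun v => T.toLinearEquiv.symm_apply_apply v⟩, fun g => Units.ext ?_⟩
      exact T.toIntertwiningMap.isIntertwining' g
    · let β : MulAut L := MulAut.conjNormal k
      obtain ⟨u, hu, huc⟩ := exists_outer ρL hφ hρL β fun l => by
        have := hφG k l
        rw [← this]
        exact congrArg φ (Subtype.ext (MulAut.conjNormal_apply k l))
      refine ⟨u, fun l hl => Units.ext ?_, fun Y hY => huc Y fun l => hY l l.2⟩
      have := hu ⟨l, hl⟩
      simp only [ρL, MonoidHom.coe_comp, Function.comp_apply, Subgroup.coe_subtype] at this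
      rw [Units.val_mul, Units.val_mul, un_val, un_val, this]
      congr 2
  obtain ⟨j, hj, hjA, hjC, hjK, htw⟩ := hD.exists_twist
  have hjH : ∀ h ∈ H, Commute j (ρ h) := fun h hh => by
    obtain ⟨l, hl, c, hc, rfl⟩ := P.hgen h hh
    rw [map_mul]
    exact (hjA l hl).mul_right (hjC c hc)
  -- the block projections
  let W : I → Type := fun i => Fin (n i) → ℂ
  let e : I → Module.End ℂ (∀ i, Fin (n i) → ℂ) := fun i =>
    LinearMap.single ℂ W i ∘ₗ LinearMap.proj i
  have heρ : ∀ i g, Commute (e i) (ρ g) := fun i g => LinearMap.ext fun v => funext fun x => by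
    rcases eq_or_ne x i with rfl | hx <;> simp [e, ρ, W, *]
  have hje : ∀ i, Commute j (e i) := fun i => hjK _ fun k _ => heρ i k
  have hee : ∀ i, e i * e i = e i := fun i => LinearMap.ext fun v => by simp [e, W]
  have htr : ∀ i g, LinearMap.trace ℂ _ (e i * ρ g) = (i.1 : G → ℂ) g := fun i g => by
    rw [← congrFun (hrc i) g]
    unfold Representation.character
    refine Eq.trans ?_ (trace_single_comp (W := W) i (r i g))
    congr 1
  have hf : ∀ (i : I) (z : ℂ), z * z = 1 →
      IsCharacter H (fun h : H => LinearMap.trace ℂ _ ((2⁻¹ : ℂ) • (e i + z • (e i * j)) * ρ h)) := by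
    intro i z hz
    refine isCharacter_idem (ρ.comp H.subtype) _ ?_ fun h => ?_
    · have h1 : e i * (e i * j) = e i * j := by rw [← mul_assoc, hee]
      have h2 : e i * j * e i = e i * j := by rw [mul_assoc, (hje i).eq, h1]
      have h3 : e i * j * (e i * j) = e i := by
        rw [← mul_assoc, h2, mul_assoc, hj, mul_one]
      simp only [add_mul, mul_add, smul_mul_assoc, mul_smul_comm, hee, h1, h2, h3, smul_smul]
      rcases mul_self_eq_one_iff.mp hz with rfl | rfl <;> module
    · exact (((heρ i h).add_left (((heρ i h).mul_left (hjH h h.2)).smul_left z)).smul_left _)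
  let ξ : I → H → ℂ := fun i h => LinearMap.trace ℂ _ (e i * j * ρ (h : G))
  let A : I → H → ℂ := fun i h => LinearMap.trace ℂ _ ((2⁻¹ : ℂ) • (e i + (1 : ℂ) • (e i * j)) * ρ h)
  let B : I → H → ℂ := fun i h => LinearMap.trace ℂ _ ((2⁻¹ : ℂ) • (e i + (-1 : ℂ) • (e i * j)) * ρ h)
  have hA : ∀ i, IsCharacter H (A i) := fun i => hf i 1 (one_mul 1)
  have hB : ∀ i, IsCharacter H (B i) := fun i => hf i (-1) (by norm_num)
  have hAB : ∀ i, A i - B i = ξ i := fun i => funext fun h => by
    simp only [A, B, ξ, Pi.sub_apply, ← map_sub, ← sub_mul]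
    congr 2
    module
  have hAB' : ∀ i, A i + B i = fun h : H => (i.1 : G → ℂ) h := fun i => funext fun h => by
    simp only [A, B, Pi.add_apply, ← map_add, ← add_mul]
    rw [← htr i h]
    congr 2
    module
  have hconj : ∀ i (h : H), LinearMap.trace ℂ _ (ρ (h : G)⁻¹ * j * e i) =
      starRingEnd ℂ (ξ i h) := fun i h => by
    have h1 : ξ i h⁻¹ = starRingEnd ℂ (ξ i h) := by
      rw [← hAB i, Pi.sub_apply, Pi.sub_apply, map_sub, IsCharacter.apply_inv (hA i),
        IsCharacter.apply_inv (hB i)]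
    rw [← h1]
    show _ = LinearMap.trace ℂ _ (e i * j * ρ ((h : G)⁻¹))
    rw [((heρ i _).mul_left (hjH _ (H.inv_mem h.2))).eq, mul_assoc, (hje i).eq]
  have horth : ∀ i k, classInner (ξ i) (ξ k) = classInner (i.1 : G → ℂ) (k.1 : G → ℂ) := by
    intro i k
    have h1 := trace_identity ρ P.leH P.le P.inf_eq P.genHK P.comm P.odd hj
      (fun Y hY => hjK Y fun x _ => hY x (Subgroup.mem_top x)) htw (e i) (e k) (heρ i) (heρ k)
    simp only [hconj] at h1
    rw [classInner, classInner]
    refine h1.trans ?_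
    congr 1
    refine Finset.sum_congr rfl fun g _ => ?_
    rw [htr i g, ← (heρ k g⁻¹).eq, htr k, IsCharacter.apply_inv (IsIrrCharacter.isCharacter k.1.2)]
  have hnorm : ∀ i, classInner (A i - B i) (A i - B i) = 1 := fun i => by
    rw [hAB, horth, classInner_irr_self i.1.2]
  choose F z hz hFz hFodd hFuniq using fun i => exists_signed_irr (hA i) (hB i) (hnorm i)
  have hodd : ∀ i, OddMult (i.1 : G → ℂ) (F i : H → ℂ) := fun i => by
    obtain ⟨m', hm', hm''⟩ := hFodd i
    exact ⟨m', by rw [← hm', hAB'], hm''⟩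
  have hinj : Function.Injective F := by
    intro i k hik
    by_contra hne
    have h0 : classInner (ξ i) (ξ k) = 0 := by
      rw [horth]
      exact classInner_irr_of_ne i.1.2 k.1.2 fun h => hne (Subtype.ext (Subtype.ext h))
    have hz0 : ∀ i, z i ≠ 0 := fun i h => by simpa [h] using hz i
    rw [← hAB, ← hAB, hFz, hFz, hik, classInner_smul_left, classInner_smul_right,
      classInner_irr_self (F k).2, mul_one] at h0
    exact mul_ne_zero (hz0 i) (by simpa using hz0 k) h0
  -- degrees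
  let LH := L.subgroupOf H
  haveI := Fintype.ofFinite LH
  let eH : LH ≃* L := Subgroup.subgroupOfEquivOfLe P.leH
  have hoverF : ∀ i, classInner (fun l : L => (F i : H → ℂ) ⟨(l : G), P.leH l.2⟩) φ ≠ 0 := fun i =>
    P.over_phi hφ hφG i.1.2 (hover i) H P.leH (F i).2 (hodd i).ne_zero
  have hFL : ∀ ψ : IrrCharacter H,
      classInner (fun x : LH => (ψ : H → ℂ) x) (fun x => φ (eH x)) =
        classInner (fun l : L => (ψ : H → ℂ) ⟨(l : G), P.leH l.2⟩) φ := fun ψ =>
    classInner_comp_equiv eH (fun l : L => (ψ : H → ℂ) ⟨(l : G), P.leH l.2⟩) φ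
  have hinvH : ∀ h : H, CliffordChar.conjFun LH h (fun x => φ (eH x)) = fun x => φ (eH x) := by
    intro h; funext x
    rw [CliffordChar.conjFun_apply]
    have := congrFun (P.conjFun_phi hφ hφG (h : G)) (eH x)
    rw [CliffordChar.conjFun_apply] at this
    exact this
  choose c hc using fun ψ : IrrCharacter H => IsCharacter.classInner_nat
    (IsCharacter.comp_hom (IsIrrCharacter.isCharacter ψ.2) (Subgroup.inclusion P.leH))
    (IsIrrCharacter.isCharacter hφ)
  have hFc : ∀ i, (c (F i) : ℂ) ^ 2 = (m i : ℂ) ^ 2 := by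
    intro i
    let N := L.subgroupOf K
    haveI := Fintype.ofFinite N
    let eK : N ≃* L := Subgroup.subgroupOfEquivOfLe P.le
    have h1 := trace_identity (H := N) (K := ⊤) (L := N) ρK le_rfl le_top (fun x hx _ => hx)
      (fun g => ⟨1, N.one_mem, g, Subgroup.mem_top g, (one_mul g).symm⟩)
      (fun x _ y _ => P.comm x x.2 y y.2) (P.odd.of_dvd_nat (Subgroup.card_subgroup_dvd_card K)) hj
      (fun Y hY => hjK Y fun x hx => hY ⟨x, hx⟩ (Subgroup.mem_top _))
      (fun k _ Y hY => htw k k.2 Y fun l hl => hY ⟨l, P.le hl⟩ hl)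
      (e i) (e i) (fun g => heρ i g) (fun g => heρ i g)
    have hl : ∀ l : L, ξ i ⟨(l : G), P.leH l.2⟩ = z i * ((c (F i) : ℂ) * φ l) := fun l => by
      rw [← hAB i, hFz i, Pi.smul_apply, smul_eq_mul]
      congr 1
      have := congrFun (CharApp.restrict_invariant LH (F i).2 (IsIrrCharacter.comp_equiv hφ eH)
        (by rw [hFL]; exact hoverF i) hinvH) (eH.symm l)
      rw [hFL, Pi.smul_apply, smul_eq_mul, MulEquiv.apply_symm_apply] at this
      rw [← hc (F i)]
      exact this
    have hlhs : classInner (fun x : N => ξ i ⟨((eK x : L) : G), P.leH (eK x).2⟩)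
        (fun x : N => ξ i ⟨((eK x : L) : G), P.leH (eK x).2⟩) = (c (F i) : ℂ) ^ 2 := by
      rw [classInner_comp_equiv eK (fun l : L => ξ i ⟨(l : G), P.leH l.2⟩)
        (fun l : L => ξ i ⟨(l : G), P.leH l.2⟩),
        show (fun l : L => ξ i ⟨(l : G), P.leH l.2⟩) = (z i * (c (F i) : ℂ)) • φ from
          funext fun l => by rw [hl, Pi.smul_apply, smul_eq_mul, mul_assoc],
        classInner_smul_left, classInner_smul_right, classInner_irr_self hφ, mul_one, map_mul,
        Complex.conj_natCast]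
      have hzr : starRingEnd ℂ (z i) = z i := by
        rcases mul_self_eq_one_iff.mp (hz i) with h | h <;> simp [h]
      rw [hzr, show z i * (c (F i) : ℂ) * (z i * c (F i)) = z i * z i * (c (F i) : ℂ) ^ 2 by ring,
        hz, one_mul]
    have hrhs : classInner (fun k : K => (i.1 : G → ℂ) k) (fun k : K => (i.1 : G → ℂ) k) =
        (m i : ℂ) ^ 2 := by
      rw [show (fun k : K => (i.1 : G → ℂ) k) = (m i : ℂ) • θ from funext (hK i),
        classInner_smul_left, classInner_smul_right, classInner_irr_self hθ, mul_one,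
        Complex.conj_natCast, sq]
    rw [← hlhs, ← hrhs]
    refine Eq.trans ?_ (h1.trans ?_)
    · rw [classInner]
      congr 1
      refine Finset.sum_congr rfl fun x _ => ?_
      exact (congrArg (ξ i ⟨_, P.leH (eK x).2⟩ * ·)
        (hconj i ⟨((eK x : L) : G), P.leH (eK x).2⟩)).symm
    · rw [classInner]
      congr 1
      refine Finset.sum_congr rfl fun x _ => ?_
      show LinearMap.trace ℂ _ (e i * ρ (x : G)) * LinearMap.trace ℂ _ (ρ (x : G)⁻¹ * e i) = _
      rw [htr, ← (heρ i _).eq, htr, IsCharacter.apply_inv (IsIrrCharacter.isCharacter i.1.2)]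
  -- counting
  have hindex : K.index = LH.index := by
    have h1 := sum_mul_eq P.leH P.le P.inf_eq P.genHK (fun _ => (1 : ℂ))
    simp only [Finset.sum_const, Finset.card_univ, ← Nat.card_eq_fintype_card, nsmul_eq_mul,
      mul_one] at h1
    have h2 : Nat.card H * Nat.card K = Nat.card L * Nat.card G := by exact_mod_cast h1
    rw [← K.index_mul_card, ← LH.index_mul_card, show Nat.card LH = Nat.card L from Nat.card_congr eH.toEquiv] at h2
    have h3 : 0 < Nat.card L * Nat.card K := Nat.mul_pos Nat.card_pos Nat.card_pos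
    apply Nat.eq_of_mul_eq_mul_right h3
    nlinarith
  have hsumG : ∑ i : I, (m i : ℂ) ^ 2 = (K.index : ℂ) := by
    rw [← sum_mult_sq K hθ hθG]
    rw [← Finset.sum_subset (Finset.subset_univ
      (Finset.univ.filter fun χ : IrrCharacter G => classInner (fun k : K => (χ : G → ℂ) k) θ ≠ 0))
      (fun χ _ hχ => by
        have : classInner (fun k : K => (χ : G → ℂ) k) θ = 0 := by simpa using hχ
        rw [this, sq, mul_zero])]
    rw [Finset.sum_subtype _ (p := fun χ : IrrCharacter G =>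
      classInner (fun k : K => (χ : G → ℂ) k) θ ≠ 0) (fun χ => by simp)]
    exact Finset.sum_congr rfl fun i _ => by rw [← hm i]
  have hsumH : ∑ ψ : IrrCharacter H, (c ψ : ℂ) ^ 2 = (K.index : ℂ) := by
    rw [hindex, ← sum_mult_sq LH (IsIrrCharacter.comp_equiv hφ eH) hinvH]
    exact Finset.sum_congr rfl fun ψ _ => by rw [hFL, ← hc ψ]; rfl
  refine ⟨F, hinj, hodd, fun i η ⟨m', hm', hm''⟩ => hFuniq i η ⟨m', by rw [hAB', hm'], hm''⟩,
    fun ψ hψ => ?_⟩
  by_contra hno
  push Not at hno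
  have hψc : 0 < c ψ := Nat.pos_of_ne_zero fun h0 => hψ (by
    have := hc ψ
    rw [h0, Nat.cast_zero] at this
    exact this)
  have h1 : (∑ ψ ∈ Finset.univ.image F, c ψ ^ 2) = ∑ ψ, c ψ ^ 2 := by
    rw [Finset.sum_image hinj.injOn]
    have : ((∑ i, c (F i) ^ 2 : ℕ) : ℂ) = ((∑ ψ, c ψ ^ 2 : ℕ) : ℂ) := by
      push_cast
      rw [hsumH, ← hsumG]
      exact Finset.sum_congr rfl fun i _ => hFc i
    exact_mod_cast this
  have h2 : ψ ∉ Finset.univ.image F := by
    simp only [Finset.mem_image, Finset.mem_univ, true_and, not_exists]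
    exact hno
  have h3 := Finset.sum_le_sum_of_subset (f := fun ψ => c ψ ^ 2)
    (Finset.subset_univ (insert ψ (Finset.univ.image F)))
  rw [Finset.sum_insert h2, h1] at h3
  have : 0 < c ψ ^ 2 := pow_pos hψc 2
  omega

omit hθ hθL hθS hθG in
/-- The correspondence over an invariant `φ`. -/
theorem core :
    (∀ χ : G → ℂ, IsIrrCharacter G χ → classInner (fun l : L => χ l) φ ≠ 0 → IsFixed act χ →
      ∃ ψ : IrrCharacter H, IsFixed (resAct act H P.stableH) (ψ : H → ℂ) ∧
        classInner (fun l : L => (ψ : H → ℂ) ⟨(l : G), P.leH l.2⟩) φ ≠ 0 ∧ OddMult χ (ψ : H → ℂ) ∧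
        ∀ η : IrrCharacter H, OddMult χ (η : H → ℂ) → η = ψ) ∧
    (∀ χ χ' : G → ℂ, IsIrrCharacter G χ → IsIrrCharacter G χ' →
      classInner (fun l : L => χ l) φ ≠ 0 → classInner (fun l : L => χ' l) φ ≠ 0 →
      IsFixed act χ → IsFixed act χ' → ∀ ψ : IrrCharacter H, OddMult χ (ψ : H → ℂ) →
      OddMult χ' (ψ : H → ℂ) → χ = χ') ∧
    ∀ ψ : IrrCharacter H, classInner (fun l : L => (ψ : H → ℂ) ⟨(l : G), P.leH l.2⟩) φ ≠ 0 →
      IsFixed (resAct act H P.stableH) (ψ : H → ℂ) →
      ∃ χ : G → ℂ, IsIrrCharacter G χ ∧ classInner (fun l : L => χ l) φ ≠ 0 ∧ IsFixed act χ ∧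
        OddMult χ (ψ : H → ℂ) := by
  classical
  haveI := P.normalK
  obtain ⟨θ, hθ, hθL, hθS, hθG, huniq⟩ := P.exists_unique_above hφ hφG hφS
  obtain ⟨F, hinj, hodd, hFuniq, hsurj⟩ := P.exists_map hφ hφG hφS hθ hθL hθS hθG
  have hmem : ∀ χ : G → ℂ, IsIrrCharacter G χ → classInner (fun l : L => χ l) φ ≠ 0 → IsFixed act χ →
      classInner (fun k : K => χ k) θ ≠ 0 := by
    intro χ hχ hover hfix
    obtain ⟨θ', hθ'⟩ := CharApp.exists_constituent (IsCharacter.restrict (IsIrrCharacter.isCharacter hχ) K)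
      (fun h0 => IsIrrCharacter.apply_one_ne_zero hχ h0)
    have hθ'S := fixed_of_constituent K act P.cop P.stableK P.gen hχ hfix θ'.2 hθ'
    have hθ'L := P.over_phi hφ hφG hχ hover K P.le θ'.2 hθ'
    rw [huniq θ' θ'.2 hθ'L hθ'S] at hθ'
    exact hθ'
  -- the map commutes with `S`
  have hequiv : ∀ (s : S) (i), ∃ i' : {χ : IrrCharacter G // classInner (fun k : K => (χ : G → ℂ) k) θ ≠ 0},
      (∀ g, (i'.1 : G → ℂ) g = (i.1 : G → ℂ) (act s g)) ∧
        ∀ h : H, (F i' : H → ℂ) h = (F i : H → ℂ) (resAct act H P.stableH s h) := by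
    intro s i
    have hi : classInner (fun x : K => (i.1 : G → ℂ) (act s x)) θ ≠ 0 := by
      have h := classInner_comp_equiv (resAct act K P.stableK s) (fun x : K => (i.1 : G → ℂ) x) θ
      rw [show (fun x => θ (resAct act K P.stableK s x)) = θ from funext (hθS s)] at h
      intro h0; exact i.2 (h.symm.trans h0)
    refine ⟨⟨⟨_, IsIrrCharacter.comp_equiv i.1.2 (act s)⟩, hi⟩, fun g => rfl, fun h => ?_⟩
    obtain ⟨m, hm, hm'⟩ := hodd i
    have := hFuniq ⟨⟨_, IsIrrCharacter.comp_equiv i.1.2 (act s)⟩, hi⟩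
      ⟨_, IsIrrCharacter.comp_equiv (F i).2 (resAct act H P.stableH s)⟩ ⟨m, by
        rw [← hm]
        exact classInner_comp_equiv (resAct act H P.stableH s) (fun h : H => (i.1 : G → ℂ) h)
          (F i : H → ℂ), hm'⟩
    rw [← this]
  refine ⟨fun χ hχ hover hfix => ?_, fun χ χ' hχ hχ' ho ho' hf hf' ψ h h' => ?_, fun ψ hψ hψS => ?_⟩
  · let i : {χ : IrrCharacter G // classInner (fun k : K => (χ : G → ℂ) k) θ ≠ 0} :=
      ⟨⟨χ, hχ⟩, hmem χ hχ hover hfix⟩
    refine ⟨F i, fun s h => ?_, P.over_phi hφ hφG hχ hover H P.leH (F i).2 (hodd i).ne_zero, hodd i,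
      hFuniq i⟩
    obtain ⟨i', hi', hF⟩ := hequiv s i
    have : i' = i := Subtype.ext (Subtype.ext (funext fun g => (hi' g).trans (hfix s g)))
    rw [← hF, this]
  · have h1 := (hFuniq ⟨⟨χ, hχ⟩, hmem χ hχ ho hf⟩ ψ h).symm.trans
      (hFuniq ⟨⟨χ', hχ'⟩, hmem χ' hχ' ho' hf'⟩ ψ h')
    exact congrArg (fun i => ((i.1 : IrrCharacter G) : G → ℂ)) (hinj h1)
  · obtain ⟨i, rfl⟩ := hsurj ψ hψ
    refine ⟨_, i.1.2, P.over_of_over_theta hφ hφG hφS hθ hθL hθG i.1.2 i.2, fun s g => ?_, hodd i⟩
    obtain ⟨i', hi', hF⟩ := hequiv s i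
    have : i' = i := hinj (Subtype.ext (funext fun h => (hF h).trans (hψS s h)))
    rw [← hi', this]

end Setup

end Cfsg.Agent.OddSection
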