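/-
The correspondence across an abelian section: reduction to the inertia group.

* `indFun_comp_aut`
* `Setup.conj_unique`: an invariant character of `L` is the only invariant one in its `K`-orbit
* `Setup.toInertia`: the hypotheses pass to the inertia group
* `Setup.forward`, `Setup.injective`, `Setup.surjective`
-/
import Cfsg.Agent.Lib.OddSection.Core

set_option autoImplicit false
set_option linter.style.haveILetI false
set_option linter.unusedSectionVars false

namespace Cfsg.Agent.OddSection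

open Cfsg Cfsg.Agent.Char
open Cfsg.Agent.GlauberChar (IsFixed)

variable {G : Type*} [Group G] {S : Type*} [Group S]

theorem indFun_comp_aut [Fintype G] (T : Subgroup G) (α : MulAut G) (hT : ∀ x ∈ T, α x ∈ T)
    (hT' : ∀ x ∈ T, α.symm x ∈ T) {θ : T → ℂ} (hθ : ∀ x : T, θ ⟨α x, hT x x.2⟩ = θ x) (g : G) :
    indFun T θ (α g) = indFun T θ g := by
  unfold indFun
  congr 1
  refine (Fintype.sum_equiv α.toEquiv _ _ fun x => ?_).symm
  show _ = extendByZero T θ ((α x)⁻¹ * α g * α x)
  rw [show (α x)⁻¹ * α g * α x = α (x⁻¹ * g * x) by simp]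
  by_cases h : x⁻¹ * g * x ∈ T
  · rw [extendByZero_mem T θ h, extendByZero_mem T θ (hT _ h)]
    exact (hθ ⟨_, h⟩).symm
  · rw [extendByZero_not_mem T θ h, extendByZero_not_mem T θ fun h' => h (by simpa using hT' _ h')]

namespace Setup

variable {act : S →* MulAut G} {K L H : Subgroup G} (P : Setup act K L H)

include P

theorem normalLH : (L.subgroupOf H).Normal :=
  ⟨fun n hn g => P.normalL.conj_mem (n : G) hn (g : G)⟩

variable [Finite G] [Finite S] [Fintype G] [Fintype L] [Fintype H]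
  {φ : L → ℂ} (hφ : IsIrrCharacter L φ) (hφS : IsFixed (resAct act L P.stableL) φ)

include hφ hφS

omit hφ in
theorem conjFun_act (s : S) (g : G) (n : L) :
    haveI := P.normalL
    CliffordChar.conjFun L (act s g) φ (resAct act L P.stableL s n) = CliffordChar.conjFun L g φ n := by
  haveI := P.normalL
  rw [CliffordChar.conjFun_apply, CliffordChar.conjFun_apply]
  refine Eq.trans ?_ (hφS s _)
  congr 1
  exact Subtype.ext (by simp)

/-- An invariant `K`-conjugate of `φ` equals `φ`. -/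
theorem conj_unique {k : G} (hk : k ∈ K)
    (h : haveI := P.normalL; IsFixed (resAct act L P.stableL) (CliffordChar.conjFun L k φ)) :
    haveI := P.normalL; CliffordChar.conjFun L k φ = φ := by
  haveI := P.normalL
  let T := CharApp.inertia L φ
  have hLT : L ≤ T := CharApp.le_inertia L (IsIrrCharacter.isClassFunction hφ)
  have hTs : ∀ s, ∀ x ∈ T, act s x ∈ T := by
    intro s x hx
    rw [CharApp.mem_inertia]
    funext n
    have h1 := P.conjFun_act hφS s x ((resAct act L P.stableL s).symm n)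
    rw [MulEquiv.apply_symm_apply, (CharApp.mem_inertia L).mp hx] at h1
    rw [h1]
    conv_rhs => rw [← MulEquiv.apply_symm_apply (resAct act L P.stableL s) n]
    exact (hφS s _).symm
  have hM := P.fixmod (K ⊓ T) (le_inf P.le hLT) inf_le_left
    (fun s x hx => ⟨P.stableK s x hx.1, hTs s x hx.2⟩) k hk fun s => by
      have h1 : k⁻¹ * act s k ∈ T := by
        rw [CharApp.mem_inertia, CliffordChar.conjFun_mul]
        have h2 : CliffordChar.conjFun L (act s k) φ = CliffordChar.conjFun L k φ := funext fun n => by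
          have h3 := P.conjFun_act hφS s k ((resAct act L P.stableL s).symm n)
          rw [MulEquiv.apply_symm_apply] at h3
          rw [h3]
          conv_rhs => rw [← MulEquiv.apply_symm_apply (resAct act L P.stableL s) n]
          exact (h s _).symm
        rw [h2, ← CliffordChar.conjFun_mul, inv_mul_cancel, CliffordChar.conjFun_one]
      refine ⟨K.mul_mem (P.stableK s k hk) (K.inv_mem hk), ?_⟩
      rw [show act s k * k⁻¹ =
        k * (k⁻¹ * act s k) * k⁻¹ * (k⁻¹ * act s k)⁻¹ * (k⁻¹ * act s k) by group]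
      exact T.mul_mem (hLT (P.comm k hk _ (K.mul_mem (K.inv_mem hk) (P.stableK s k hk)))) h1
  exact hM.2

omit hφ in
theorem conj_fixed {c : G} (hc : ∀ s, act s c = c) :
    haveI := P.normalL; IsFixed (resAct act L P.stableL) (CliffordChar.conjFun L c φ) := by
  haveI := P.normalL
  intro s n
  have := P.conjFun_act hφS s c n
  rwa [hc s] at this

theorem toInertia :
    haveI := P.normalL
    ∃ hT : ∀ s, ∀ x ∈ CharApp.inertia L φ, act s x ∈ CharApp.inertia L φ,
      Setup (resAct act (CharApp.inertia L φ) hT) (K.subgroupOf (CharApp.inertia L φ))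
        (L.subgroupOf (CharApp.inertia L φ)) (H.subgroupOf (CharApp.inertia L φ)) := by
  haveI := P.normalL
  set T := CharApp.inertia L φ with hT_def
  have hLT : L ≤ T := CharApp.le_inertia L (IsIrrCharacter.isClassFunction hφ)
  have hTs : ∀ s, ∀ x ∈ T, act s x ∈ T := by
    intro s x hx
    rw [CharApp.mem_inertia]
    funext n
    have h1 := P.conjFun_act hφS s x ((resAct act L P.stableL s).symm n)
    rw [MulEquiv.apply_symm_apply, (CharApp.mem_inertia L).mp hx] at h1
    rw [h1]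
    conv_rhs => rw [← MulEquiv.apply_symm_apply (resAct act L P.stableL s) n]
    exact (hφS s _).symm
  refine ⟨hTs, P.odd.of_dvd_nat (Subgroup.card_subgroup_dvd_card T),
    P.cop.coprime_dvd_left (Subgroup.card_subgroup_dvd_card T),
    (haveI := P.solv; inferInstance), ⟨fun n hn g => P.normalK.conj_mem (n : G) hn (g : G)⟩,
    ⟨fun n hn g => P.normalL.conj_mem (n : G) hn (g : G)⟩, fun x hx => P.le hx, fun x hx => P.leH hx,
    fun a ha b hb => P.comm a ha b hb, fun s k hk => P.stableK s k hk,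
    fun s l hl => P.stableL s l hl, ?_, ?_, fun c hc => P.fixH c fun s => congrArg Subtype.val (hc s),
    fun c hcK hc => P.fixK c hcK fun s => congrArg Subtype.val (hc s)⟩
  · intro g
    obtain ⟨k, hk, c, hc, hg⟩ := P.gen g
    have hkc : CliffordChar.conjFun L (k * c) φ = φ := (CharApp.mem_inertia L).mp (hg ▸ g.2)
    have h1 : CliffordChar.conjFun L c φ = CliffordChar.conjFun L k⁻¹ φ := by
      conv_rhs => rw [← hkc, ← CliffordChar.conjFun_mul, ← mul_assoc, inv_mul_cancel, one_mul]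
    have hkT : k⁻¹ ∈ T := (CharApp.mem_inertia L).mpr
      (P.conj_unique hφ hφS (K.inv_mem hk) (h1 ▸ P.conj_fixed hφS hc))
    have hkT' : k ∈ T := inv_mem_iff.mp hkT
    have hcT : c ∈ T := (T.mul_mem_cancel_left hkT').mp (hg ▸ g.2)
    exact ⟨⟨k, hkT'⟩, hk, ⟨c, hcT⟩, fun s => Subtype.ext (hc s), Subtype.ext hg⟩
  · intro h hh
    obtain ⟨l, hl, c, hc, hg⟩ := P.hgen h hh
    have hcT : c ∈ T := (T.mul_mem_cancel_left (hLT hl)).mp (hg ▸ h.2)
    exact ⟨⟨l, hLT hl⟩, hl, ⟨c, hcT⟩, fun s => Subtype.ext (hc s), Subtype.ext hg⟩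

variable [Fintype S]

set_option maxHeartbeats 800000 in
/-- The correspondence over an invariant `φ`, not necessarily stable in `G`. -/
theorem correspondence :
    (∀ χ : IrrCharacter G, classInner (fun l : L => (χ : G → ℂ) l) φ ≠ 0 → IsFixed act (χ : G → ℂ) →
      ∃ ψ : IrrCharacter H, IsFixed (resAct act H P.stableH) (ψ : H → ℂ) ∧
        OddMult (χ : G → ℂ) (ψ : H → ℂ) ∧
        ∀ η : IrrCharacter H, IsFixed (resAct act H P.stableH) (η : H → ℂ) →
          OddMult (χ : G → ℂ) (η : H → ℂ) → η = ψ) ∧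
    (∀ χ χ' : IrrCharacter G, classInner (fun l : L => (χ : G → ℂ) l) φ ≠ 0 →
      IsFixed act (χ : G → ℂ) → IsFixed act (χ' : G → ℂ) →
      ∀ ψ : IrrCharacter H, classInner (fun l : L => (ψ : H → ℂ) ⟨(l : G), P.leH l.2⟩) φ ≠ 0 →
      IsFixed (resAct act H P.stableH) (ψ : H → ℂ) →
      classInner (fun l : L => (χ' : G → ℂ) l) φ ≠ 0 →
      OddMult (χ : G → ℂ) (ψ : H → ℂ) → OddMult (χ' : G → ℂ) (ψ : H → ℂ) → χ = χ') ∧
    ∀ ψ : IrrCharacter H, classInner (fun l : L => (ψ : H → ℂ) ⟨(l : G), P.leH l.2⟩) φ ≠ 0 →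
      IsFixed (resAct act H P.stableH) (ψ : H → ℂ) →
      ∃ χ : IrrCharacter G, IsFixed act (χ : G → ℂ) ∧ OddMult (χ : G → ℂ) (ψ : H → ℂ) := by
  classical
  haveI := P.normalL
  haveI := P.normalLH
  obtain ⟨hTs, Q⟩ := P.toInertia hφ hφS
  set T := CharApp.inertia L φ with hT_def
  haveI := Fintype.ofFinite T
  have hLT : L ≤ T := CharApp.le_inertia L (IsIrrCharacter.isClassFunction hφ)
  let LT := L.subgroupOf T
  haveI := Fintype.ofFinite LT
  haveI := Fintype.ofFinite (K.subgroupOf T)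
  let HT := H.subgroupOf T
  haveI := Fintype.ofFinite HT
  let eL : LT ≃* L := Subgroup.subgroupOfEquivOfLe hLT
  let LH := L.subgroupOf H
  haveI := Fintype.ofFinite LH
  let eLH : LH ≃* L := Subgroup.subgroupOfEquivOfLe P.leH
  let TH := CharApp.inertia LH (fun x => φ (eLH x))
  haveI := Fintype.ofFinite TH
  have hTH : ∀ h : H, h ∈ TH ↔ (h : G) ∈ T := fun h => by
    rw [CharApp.mem_inertia_iff, CharApp.mem_inertia_iff]
    exact ⟨fun hh n => hh (eLH.symm n), fun hh n => hh (eLH n)⟩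
  let e : TH ≃* HT :=
    { toFun := fun x => ⟨⟨((x : H) : G), (hTH x).mp x.2⟩, (x : H).2⟩
      invFun := fun x => ⟨⟨((x : T) : G), x.2⟩, (hTH _).mpr (x : T).2⟩
      left_inv := fun _ => rfl
      right_inv := fun _ => rfl
      map_mul' := fun _ _ => rfl }
  -- `φ` on the inertia group
  have hφT : IsIrrCharacter LT (fun x => φ (eL x)) := IsIrrCharacter.comp_equiv hφ eL
  have hφTG : ∀ (g : T) (l : LT), φ (eL ⟨g * l * g⁻¹, Q.normalL.conj_mem l l.2 g⟩) = φ (eL l) :=
    fun g l => (CharApp.mem_inertia_iff L).mp g.2 (eL l)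
  have hφTS : IsFixed (resAct (resAct act T hTs) LT Q.stableL) (fun x => φ (eL x)) :=
    fun s x => hφS s (eL x)
  obtain ⟨hfwd, hinj, hsurj⟩ := Q.core hφT hφTG hφTS
  have hφH : IsIrrCharacter LH (fun x => φ (eLH x)) := IsIrrCharacter.comp_equiv hφ eLH
  -- over `φ`, in the three groups
  have hovT : ∀ ζ : T → ℂ, classInner (fun x : LT => ζ x) (fun x => φ (eL x)) =
      classInner (fun l : L => ζ ⟨(l : G), hLT l.2⟩) φ := fun ζ =>
    classInner_comp_equiv eL (fun l : L => ζ ⟨(l : G), hLT l.2⟩) φ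
  have hovH : ∀ η : H → ℂ, classInner (fun x : LH => η x) (fun x => φ (eLH x)) =
      classInner (fun l : L => η ⟨(l : G), P.leH l.2⟩) φ := fun η =>
    classInner_comp_equiv eLH (fun l : L => η ⟨(l : G), P.leH l.2⟩) φ
  have hovHT : ∀ η : HT → ℂ,
      classInner (fun n : LH => η (e ⟨(n : H), CharApp.le_inertia LH
        (IsIrrCharacter.isClassFunction hφH) n.2⟩)) (fun x => φ (eLH x)) =
      classInner (fun l : LT => η ⟨(l : T), Q.leH l.2⟩) (fun x => φ (eL x)) := fun η =>
    (classInner_comp_equiv eLH (fun l : L => η ⟨⟨(l : G), hLT l.2⟩, P.leH l.2⟩) φ).trans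
      (classInner_comp_equiv eL (fun l : L => η ⟨⟨(l : G), hLT l.2⟩, P.leH l.2⟩) φ).symm
  -- characters of `G` over `φ`
  have hG : ∀ χ : IrrCharacter G, classInner (fun l : L => (χ : G → ℂ) l) φ ≠ 0 →
      ∃ χ₀ : T → ℂ, IsIrrCharacter T χ₀ ∧ classInner (fun x : LT => χ₀ x) (fun x => φ (eL x)) ≠ 0 ∧
        indFun T χ₀ = (χ : G → ℂ) ∧
        (IsFixed act (χ : G → ℂ) → IsFixed (resAct act T hTs) χ₀) ∧
        ∀ η : HT → ℂ, IsIrrCharacter HT η →
          classInner (fun l : LT => η ⟨(l : T), Q.leH l.2⟩) (fun x => φ (eL x)) ≠ 0 →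
          classInner (fun x : HT => (χ : G → ℂ) ((x : T) : G)) η =
            classInner (fun x : HT => χ₀ x) η := by
    intro χ hχ
    obtain ⟨χ₀, hχ₀, hind, hmul, huniq⟩ := CharApp.exists_correspondent L hφ χ.2 hχ
    have hover₀ : classInner (fun x : LT => χ₀ x) (fun x => φ (eL x)) ≠ 0 := by
      rw [hovT, hmul]; exact hχ
    have hone : classInner (fun x : T => (χ : G → ℂ) x) χ₀ = 1 := by
      have h := frobenius_reciprocity' T χ₀ (IsIrrCharacter.isClassFunction χ.2)
      rw [hind, classInner_irr_self χ.2] at h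
      exact h.symm
    refine ⟨χ₀, hχ₀, hover₀, hind, fun hfix s x => ?_, fun η hη hηφ => ?_⟩
    · have h1 := huniq (fun x => χ₀ (resAct act T hTs s x)) (IsIrrCharacter.comp_equiv hχ₀ _) ?_ ?_
      · exact congrFun h1 x
      · have h := classInner_comp_equiv (resAct act T hTs s) (fun x : T => (χ : G → ℂ) x) χ₀
        rw [show (fun x : T => (χ : G → ℂ) (resAct act T hTs s x : T)) = fun x : T => (χ : G → ℂ) x from
          funext fun x => hfix s x] at h
        rw [h, hone]; exact one_ne_zero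
      · have h := classInner_comp_equiv (resAct act L P.stableL s)
          (fun l : L => χ₀ ⟨(l : G), hLT l.2⟩) φ
        rw [show (fun l => φ (resAct act L P.stableL s l)) = φ from funext (hφS s)] at h
        rw [hovT] at hover₀
        intro h0
        exact hover₀ (h.symm.trans h0)
    · haveI := Fintype.ofFinite (IrrCharacter T)
      obtain ⟨c, hc, hin⟩ := IsCharacter.decompose (IsCharacter.restrict (IsIrrCharacter.isCharacter χ.2) T)
      have hrw : (fun x : HT => (χ : G → ℂ) ((x : T) : G)) =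
          ∑ ζ : IrrCharacter T, (c ζ : ℂ) • fun x : HT => (ζ : T → ℂ) x := by
        funext x
        have := congrFun hc (x : T)
        simpa [Finset.sum_apply] using this
      rw [hrw, classInner_sum_left, Finset.sum_eq_single ⟨χ₀, hχ₀⟩]
      · rw [classInner_smul_left, ← hin ⟨χ₀, hχ₀⟩, hone, one_mul]
      · intro ζ _ hne
        rw [classInner_smul_left]
        by_cases hcz : c ζ = 0
        · simp [hcz]
        · refine mul_eq_zero_of_right _ ?_
          by_contra h0
          refine hne (Subtype.ext (huniq ζ ζ.2 (by rw [hin ζ]; exact_mod_cast hcz) ?_))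
          rw [← hovT]
          exact CharApp.over_trans (Subgroup.inclusion Q.leH)
            (IsCharacter.restrict (IsIrrCharacter.isCharacter ζ.2) HT) hη hφT h0 hηφ
      · exact fun h => absurd (Finset.mem_univ _) h
  -- characters of `H` over `φ`
  have hH : ∀ η : IrrCharacter H, classInner (fun l : L => (η : H → ℂ) ⟨(l : G), P.leH l.2⟩) φ ≠ 0 →
      ∃ η₀ : IrrCharacter HT,
        classInner (fun l : LT => (η₀ : HT → ℂ) ⟨(l : T), Q.leH l.2⟩) (fun x => φ (eL x)) ≠ 0 ∧
        indFun TH (fun x => (η₀ : HT → ℂ) (e x)) = (η : H → ℂ) ∧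
        (IsFixed (resAct act H P.stableH) (η : H → ℂ) →
          IsFixed (resAct (resAct act T hTs) HT Q.stableH) (η₀ : HT → ℂ)) ∧
        ∀ χ : IrrCharacter G, classInner (fun h : H => (χ : G → ℂ) h) (η : H → ℂ) =
          classInner (fun x : HT => (χ : G → ℂ) ((x : T) : G)) (η₀ : HT → ℂ) := by
    intro η hη
    rw [← hovH] at hη
    obtain ⟨θ, hθ, hind, hmul, huniq⟩ := CharApp.exists_correspondent LH hφH η.2 hη
    let η₀ : IrrCharacter HT := ⟨fun x => θ (e.symm x), IsIrrCharacter.comp_equiv hθ e.symm⟩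
    have he : (fun x => (η₀ : HT → ℂ) (e x)) = θ := funext fun x => congrArg θ (e.symm_apply_apply x)
    refine ⟨η₀, ?_, by rw [he]; exact hind, fun hfix s x => ?_, fun χ => ?_⟩
    · rw [← hovHT]
      show classInner (fun n : LH => θ (e.symm (e _))) _ ≠ 0
      simp only [MulEquiv.symm_apply_apply]
      rw [hmul]; exact hη
    · let σ : TH ≃* TH :=
        { toFun := fun y => ⟨resAct act H P.stableH s y,
            (hTH _).mpr (hTs s _ ((hTH _).mp y.2))⟩
          invFun := fun y => ⟨resAct act H P.stableH s⁻¹ y,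
            (hTH _).mpr (hTs s⁻¹ _ ((hTH _).mp y.2))⟩
          left_inv := fun y => Subtype.ext (Subtype.ext (by simp))
          right_inv := fun y => Subtype.ext (Subtype.ext (by simp))
          map_mul' := fun a b => Subtype.ext (map_mul _ _ _) }
      have h1 : (fun y => θ (σ y)) = θ := by
        refine huniq _ (IsIrrCharacter.comp_equiv hθ σ) ?_ ?_
        · have h := classInner_comp_equiv σ (fun y : TH => (η : H → ℂ) y) θ
          rw [show (fun y : TH => (η : H → ℂ) (σ y : TH)) = fun y : TH => (η : H → ℂ) y from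
            funext fun y => hfix s y] at h
          rw [h]
          have h2 := frobenius_reciprocity' TH θ (IsIrrCharacter.isClassFunction η.2)
          rw [hind, classInner_irr_self η.2] at h2
          rw [← h2]; exact one_ne_zero
        · let τ : LH ≃* LH := resAct (resAct act H P.stableH) LH (fun s x hx => P.stableL s _ hx) s
          have h := classInner_comp_equiv τ
            (fun n : LH => θ ⟨(n : H), CharApp.le_inertia LH (IsIrrCharacter.isClassFunction hφH) n.2⟩)
            (fun x => φ (eLH x))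
          rw [show (fun n => φ (eLH (τ n))) = fun x => φ (eLH x) from funext fun n => hφS s (eLH n)] at h
          intro h0
          exact hη (hmul.symm.trans (h.symm.trans h0))
      show θ (e.symm _) = θ (e.symm x)
      rw [← congrFun h1 (e.symm x)]
      rfl
    · rw [← hind, frobenius_reciprocity' TH θ
        (IsCharacter.isClassFunction (IsCharacter.restrict (IsIrrCharacter.isCharacter χ.2) H))]
      exact classInner_comp_equiv e (fun x : HT => (χ : G → ℂ) ((x : T) : G)) (η₀ : HT → ℂ) ▸ (by rw [he]; rfl)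
  -- fixed constituents of the restriction to `H` lie over `φ`
  have hoverH : ∀ χ : IrrCharacter G, classInner (fun l : L => (χ : G → ℂ) l) φ ≠ 0 →
      ∀ η : IrrCharacter H, IsFixed (resAct act H P.stableH) (η : H → ℂ) →
      classInner (fun h : H => (χ : G → ℂ) h) (η : H → ℂ) ≠ 0 →
      classInner (fun l : L => (η : H → ℂ) ⟨(l : G), P.leH l.2⟩) φ ≠ 0 := by
    intro χ hχ η hfix hne
    obtain ⟨η₁, hη₁⟩ := CharApp.exists_constituent
      (IsCharacter.restrict (IsIrrCharacter.isCharacter η.2) LH)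
      (fun h0 => IsIrrCharacter.apply_one_ne_zero η.2 h0)
    have hη₁S := fixed_of_constituent LH (resAct act H P.stableH)
      (P.cop.coprime_dvd_left (Subgroup.card_subgroup_dvd_card H)) (fun s x hx => P.stableL s _ hx)
      (fun g => by
        obtain ⟨l, hl, c, hc, hg⟩ := P.hgen g g.2
        exact ⟨⟨l, P.leH hl⟩, hl, ⟨c, P.fixH c hc⟩, fun s => Subtype.ext (hc s), Subtype.ext hg⟩)
      η.2 hfix η₁.2 hη₁
    let ν : L → ℂ := fun l => (η₁ : LH → ℂ) (eLH.symm l)
    have hν : IsIrrCharacter L ν := IsIrrCharacter.comp_equiv η₁.2 eLH.symm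
    have hνS : IsFixed (resAct act L P.stableL) ν := fun s l => hη₁S s (eLH.symm l)
    have h1 : classInner (fun l : L => (η : H → ℂ) ⟨(l : G), P.leH l.2⟩) ν ≠ 0 := by
      intro h0
      have h := classInner_comp_equiv eLH (fun l : L => (η : H → ℂ) ⟨(l : G), P.leH l.2⟩) ν
      rw [h0] at h
      refine hη₁ (Eq.trans ?_ h)
      congr 1
    have h2 : classInner (fun l : L => (χ : G → ℂ) l) ν ≠ 0 :=
      CharApp.over_trans (Subgroup.inclusion P.leH)
        (IsCharacter.restrict (IsIrrCharacter.isCharacter χ.2) H) η.2 hν hne h1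
    obtain ⟨g, hg⟩ := CliffordChar.constituents_conjugate L χ.2 hφ hν hχ h2
    obtain ⟨k, hk, c, hc, rfl⟩ := P.gen g
    rw [CliffordChar.conjFun_mul] at hg
    have hcφ : IsIrrCharacter L (CliffordChar.conjFun L c φ) := CliffordChar.isIrr_conjFun L c hφ
    rw [P.conj_unique hcφ (P.conj_fixed hφS hc) hk (hg ▸ hνS)] at hg
    intro h0
    apply h1
    rw [← hg]
    let cH : H := ⟨c, P.fixH c hc⟩
    have h := CliffordChar.classInner_restrict_conjFun LH (IsIrrCharacter.isClassFunction η.2) cH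
      (fun x => φ (eLH x))
    rw [hovH, h0] at h
    refine Eq.trans ?_ h
    rw [← classInner_comp_equiv eLH (fun l : L => (η : H → ℂ) ⟨(l : G), P.leH l.2⟩)]
    congr 1
  refine ⟨fun χ hχ hfix => ?_, fun χ χ' hχ hfix hfix' ψ hψ hψS hχ' h h' => ?_, fun ψ hψ hψS => ?_⟩
  · obtain ⟨χ₀, hχ₀, hover₀, -, hfix₀, hmult⟩ := hG χ hχ
    obtain ⟨ψ₀, hψ₀S, hψ₀L, hodd₀, huniq₀⟩ := hfwd χ₀ hχ₀ hover₀ (hfix₀ hfix)
    have hc' := CharApp.clifford_correspondence LH hφH
      (ψ := fun x => (ψ₀ : HT → ℂ) (e x)) (IsIrrCharacter.comp_equiv ψ₀.2 e) (by rw [hovHT]; exact hψ₀L)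
    let ψ : IrrCharacter H := ⟨_, hc'.1⟩
    have hψS : IsFixed (resAct act H P.stableH) (ψ : H → ℂ) := fun s h =>
      indFun_comp_aut TH (resAct act H P.stableH s)
        (fun x hx => (hTH _).mpr (hTs s _ ((hTH _).mp hx)))
        (fun x hx => (hTH _).mpr (by
          show act s⁻¹ (x : G) ∈ T
          exact hTs s⁻¹ _ ((hTH _).mp hx)))
        (fun x => hψ₀S s (e x)) h
    have hmeq : classInner (fun h : H => (χ : G → ℂ) h) (ψ : H → ℂ) =
        classInner (fun x : HT => χ₀ x) (ψ₀ : HT → ℂ) := by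
      rw [← hmult ψ₀ ψ₀.2 hψ₀L]
      show classInner _ (indFun TH _) = _
      rw [frobenius_reciprocity' TH _
        (IsCharacter.isClassFunction (IsCharacter.restrict (IsIrrCharacter.isCharacter χ.2) H))]
      exact classInner_comp_equiv e (fun x : HT => (χ : G → ℂ) ((x : T) : G)) (ψ₀ : HT → ℂ)
    refine ⟨ψ, hψS, ?_, fun η hηS hη => ?_⟩
    · obtain ⟨m, hm, hm'⟩ := hodd₀
      exact ⟨m, hmeq.trans hm, hm'⟩
    · have hηφ := hoverH χ hχ η hηS hη.ne_zero
      obtain ⟨η₀, hη₀φ, hη₀ind, -, hη₀m⟩ := hH η hηφ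
      obtain ⟨m, hm, hm'⟩ := hη
      have : η₀ = ψ₀ := huniq₀ η₀ ⟨m, by rw [← hmult η₀ η₀.2 hη₀φ, ← hη₀m, hm], hm'⟩
      exact Subtype.ext (by rw [← hη₀ind, this])
  · obtain ⟨χ₀, hχ₀, hover₀, hind, hfix₀, hmult⟩ := hG χ hχ
    obtain ⟨χ₀', hχ₀', hover₀', hind', hfix₀', hmult'⟩ := hG χ' hχ'
    obtain ⟨ψ₀, hψ₀φ, -, -, hψ₀m⟩ := hH ψ hψ
    have hodd : ∀ (χ : IrrCharacter G) (χ₀ : T → ℂ),
        classInner (fun x : HT => (χ : G → ℂ) ((x : T) : G)) (ψ₀ : HT → ℂ) =
          classInner (fun x : HT => χ₀ x) (ψ₀ : HT → ℂ) →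
        OddMult (χ : G → ℂ) (ψ : H → ℂ) → OddMult χ₀ (ψ₀ : HT → ℂ) :=
      fun χ χ₀ he ⟨m, hm, hm'⟩ => ⟨m, by rw [← he, ← hψ₀m, hm], hm'⟩
    have := hinj χ₀ χ₀' hχ₀ hχ₀' hover₀ hover₀' (hfix₀ hfix) (hfix₀' hfix') ψ₀
      (hodd χ χ₀ (hmult ψ₀ ψ₀.2 hψ₀φ) h) (hodd χ' χ₀' (hmult' ψ₀ ψ₀.2 hψ₀φ) h')
    exact Subtype.ext (by rw [← hind, ← hind', this])
  · obtain ⟨ψ₀, hψ₀φ, -, hψ₀S, hψ₀m⟩ := hH ψ hψ
    obtain ⟨χ₀, hχ₀, hover₀, hχ₀S, m, hm, hm'⟩ := hsurj ψ₀ hψ₀φ (hψ₀S hψS)
    rw [hovT] at hover₀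
    have hc' := CharApp.clifford_correspondence L hφ hχ₀ hover₀
    let χ : IrrCharacter G := ⟨_, hc'.1⟩
    have hχφ : classInner (fun l : L => (χ : G → ℂ) l) φ ≠ 0 := by
      show classInner (fun l : L => indFun T χ₀ l) φ ≠ 0
      rw [hc'.2.1]; exact hover₀
    obtain ⟨χ₁, hχ₁, hover₁, hind₁, -, hmult⟩ := hG χ hχφ
    rw [hovT] at hover₁
    obtain rfl := hc'.2.2 χ₁ hχ₁ hover₁ hind₁
    refine ⟨χ, fun s g => indFun_comp_aut T (act s) (hTs s) (fun x hx => ?_) (fun x => hχ₀S s x) g,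
      m, by rw [hψ₀m, hmult ψ₀ ψ₀.2 hψ₀φ, hm], hm'⟩
    have := hTs s⁻¹ x hx
    rwa [map_inv] at this

end Setup

end Cfsg.Agent.OddSection
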